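import Groth.Agent.DynLib.Mul
import Groth.Prelude.Def_HopfRep

/-!
The grading on the contracted subgroup, and unipotence.
-/

universe u

open WithConv LaurentPolynomial
open scoped TensorProduct

namespace Groth.Agent.DynLib

attribute [local instance] ptGroup
attribute [-simp] LaurentPolynomial.single_eq_C_mul_T

variable {k : Type u} [CommRing k] {A : Type u} [CommRing A] [HopfAlgebra k A]
  (lam : A →ₐc[k] k[T;T⁻¹])

theorem hasLimOne_orb {R : Type u} [CommRing R] [Algebra k R] {g : Pt k A R}
    (hg : HasLimOne lam g) : HasLimOne lam (orb lam g) := by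
  refine ⟨fun a n hn => ?_, fun a => ?_⟩
  · ext m
    rw [coeff_orb, pr_pr]
    by_cases h : m = n
    · rw [if_pos h, hg.1 a n hn]; simp
    · rw [if_neg h, map_zero]; simp
  · ext m
    rw [coeff_orb, pr_pr, LaurentPolynomial.algebraMap_apply, C_apply]
    by_cases h : m = 0
    · rw [if_pos h, if_pos h, hg.2 a]
    · rw [if_neg h, if_neg h, map_zero]

theorem hasLim_orb {R : Type u} [CommRing R] [Algebra k R] {g : Pt k A R}
    (hg : HasLim lam g) : HasLim lam (orb lam g) := fun a n hn => by
  ext m
  rw [coeff_orb, pr_pr]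
  by_cases h : m = n
  · rw [if_pos h, hg a n hn]; simp
  · rw [if_neg h, map_zero]; simp

/-- The coaction on the contracted subgroup. -/
noncomputable def coactU : (A ⧸ idealU lam) →ₐ[k] (A ⧸ idealU lam)[T;T⁻¹] :=
  Ideal.Quotient.liftₐ _ (orb lam (quotPt (idealU lam))).ofConv
    ((le_ker_idealU_iff lam _).2 (hasLimOne_orb lam (hasLimOne_quotPt lam)))

theorem coactU_mk (a : A) :
    coactU lam (Ideal.Quotient.mk _ a) = (orb lam (quotPt (idealU lam))).ofConv a := rfl

/-- The graded components on the contracted subgroup. -/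
noncomputable def prU (n : ℤ) : (A ⧸ idealU lam) →ₗ[k] A ⧸ idealU lam where
  toFun b := (coactU lam b).coeff n
  map_add' a b := by simp
  map_smul' c a := by simp

theorem prU_mk (n : ℤ) (a : A) :
    prU lam n (Ideal.Quotient.mk _ a) = Ideal.Quotient.mk _ (pr lam n a) := by
  show ((orb lam (quotPt (idealU lam))).ofConv a).coeff n = _
  rw [coeff_orb]
  rfl

theorem prU_neg (n : ℤ) (hn : n < 0) (b : A ⧸ idealU lam) : prU lam n b = 0 := by
  obtain ⟨a, rfl⟩ := Ideal.Quotient.mk_surjective b
  rw [prU_mk]
  exact (hasLimOne_quotPt lam).1 a n hn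

theorem prU_zero (b : A ⧸ idealU lam) [(idealU lam).IsHopfIdeal k] :
    prU lam 0 b = algebraMap k _ (Coalgebra.counit (R := k) b) := by
  obtain ⟨a, rfl⟩ := Ideal.Quotient.mk_surjective b
  rw [prU_mk]
  exact (hasLimOne_quotPt lam).2 a

theorem prU_prU (m n : ℤ) (b : A ⧸ idealU lam) :
    prU lam m (prU lam n b) = if m = n then prU lam n b else 0 := by
  obtain ⟨a, rfl⟩ := Ideal.Quotient.mk_surjective b
  rw [prU_mk, prU_mk, pr_pr]
  split_ifs <;> simp

theorem coactU_prU (n : ℤ) (b : A ⧸ idealU lam) :
    coactU lam (prU lam n b) = AddMonoidAlgebra.single n (prU lam n b) := by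
  ext m
  show prU lam m (prU lam n b) = _
  rw [prU_prU]
  by_cases h : m = n <;> simp [h]

theorem sum_prU (b : A ⧸ idealU lam) :
    ∑ n ∈ (coactU lam b).coeff.support, prU lam n b = b := by
  obtain ⟨a, rfl⟩ := Ideal.Quotient.mk_surjective b
  have h := evalOne_coact lam a
  conv_rhs => rw [← h]
  have : Ideal.Quotient.mk (idealU lam) (evalOne k A (coact lam a)) =
      evalOne k (A ⧸ idealU lam) (coactU lam (Ideal.Quotient.mk _ a)) := by
    rw [coactU_mk]
    have h2 := congrArg (fun g : Pt k A (A ⧸ idealU lam) => g.ofConv a)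
      (mapPt_evalOne_orb lam (quotPt (idealU lam)))
    exact (congrArg _ (evalOne_coact lam a)).trans h2.symm
  rw [this]
  conv_rhs => rw [← AddMonoidAlgebra.sum_coeff_single (coactU lam _)]
  simp only [Finsupp.sum, map_sum, evalOne_single]
  rfl

theorem eq_C_of_isIdempotentElem {B : Type u} [CommRing B] {p : Polynomial B}
    (hp : IsIdempotentElem p) : p = Polynomial.C (p.coeff 0) := by
  have h0 : IsIdempotentElem (p.coeff 0) := by
    have := congrArg (fun q : Polynomial B => q.coeff 0) hp
    simpa [IsIdempotentElem, Polynomial.mul_coeff_zero] using this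
  have hC : IsIdempotentElem (Polynomial.C (p.coeff 0)) := h0.map Polynomial.C
  set d := p - Polynomial.C (p.coeff 0) with hd
  have hcube : d = d * (d * d) := by
    rw [hd]
    linear_combination (-p - 1 + 3 * Polynomial.C (p.coeff 0)) * hp.eq +
      (Polynomial.C (p.coeff 0) + 1 - 3 * p) * hC.eq
  have hpow : ∀ N : ℕ, Polynomial.X ^ N ∣ d := by
    intro N
    induction N with
    | zero => simp
    | succ N ih =>
      have hX : Polynomial.X ∣ d := by rw [Polynomial.X_dvd_iff]; simp [hd]
      obtain ⟨q, hq⟩ := ih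
      obtain ⟨r, hr⟩ := hX
      refine ⟨q * r * d, ?_⟩
      rw [hcube, pow_succ]
      calc d * (d * d) = (Polynomial.X ^ N * q) * ((Polynomial.X * r) * d) := by rw [← hq, ← hr]
        _ = _ := by rw [← hcube]; ring
  have hz : d = 0 := by
    ext m
    obtain ⟨q, hq⟩ := hpow (m + 1)
    rw [hq, Polynomial.coeff_X_pow_mul', if_neg (by omega), Polynomial.coeff_zero]
  exact sub_eq_zero.1 hz

/-- An idempotent fixed by the contraction is scalar. -/
theorem idempotent_quotient_idealU [(idealU lam).IsHopfIdeal k] (e : A ⧸ idealU lam)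
    (he : IsIdempotentElem e) : e = algebraMap k _ (Coalgebra.counit (R := k) e) := by
  have hle : ∀ n < (0 : ℤ), (coactU lam e).coeff n = 0 := fun n hn => prU_neg lam n hn e
  have hT := toLaurent_trunc _ hle
  have hp : IsIdempotentElem (trunc (coactU lam e)) := by
    apply Polynomial.toLaurent_injective
    show Polynomial.toLaurent (trunc _ * trunc _) = _
    rw [map_mul, hT, ← map_mul, he.eq]
  have hC := eq_C_of_isIdempotentElem hp
  have h0 : (trunc (coactU lam e)).coeff 0 = algebraMap k _ (Coalgebra.counit (R := k) e) := by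
    rw [← prU_zero, ← coeff_toLaurent_natCast, hT]
    rfl
  rw [h0] at hC
  have : coactU lam e = LaurentPolynomial.C (algebraMap k _ (Coalgebra.counit (R := k) e)) := by
    rw [← hT, hC, Polynomial.toLaurent_C]
  conv_lhs => rw [← sum_prU lam e]
  rw [Finset.sum_eq_single (0 : ℤ)]
  · exact prU_zero lam e
  · intro n _ hn
    show (coactU lam e).coeff n = 0
    rw [this, C_apply, if_neg hn]
  · intro h
    show (coactU lam e).coeff 0 = 0
    exact Finsupp.notMem_support_iff.1 h

section Unipotent

variable [(idealU lam).IsHopfIdeal k]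


/-- The coaction on the square. -/
noncomputable def coactU₂ : (A ⧸ idealU lam) ⊗[k] (A ⧸ idealU lam) →ₐ[k]
    ((A ⧸ idealU lam) ⊗[k] (A ⧸ idealU lam))[T;T⁻¹] :=
  let l : (A ⧸ idealU lam) →ₐ[k] (A ⧸ idealU lam) ⊗[k] (A ⧸ idealU lam) :=
    Algebra.TensorProduct.includeLeft
  let r : (A ⧸ idealU lam) →ₐ[k] (A ⧸ idealU lam) ⊗[k] (A ⧸ idealU lam) :=
    Algebra.TensorProduct.includeRight
  Algebra.TensorProduct.lift ((mapL l).comp (coactU lam)) ((mapL r).comp (coactU lam))
    fun x y => Commute.all (mapL l (coactU lam x)) (mapL r (coactU lam y))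

theorem coactU₂_comul (b : (A ⧸ idealU lam)) :
    coactU₂ lam (Coalgebra.comul (R := k) b) = mapL (Bialgebra.comulAlgHom k (A ⧸ idealU lam)) (coactU lam b) := by
  obtain ⟨a, rfl⟩ := Ideal.Quotient.mk_surjective b
  let l : (A ⧸ idealU lam) →ₐ[k] (A ⧸ idealU lam) ⊗[k] (A ⧸ idealU lam) := Algebra.TensorProduct.includeLeft
  let r : (A ⧸ idealU lam) →ₐ[k] (A ⧸ idealU lam) ⊗[k] (A ⧸ idealU lam) := Algebra.TensorProduct.includeRight
  let q : A →ₐ[k] (A ⧸ idealU lam) := Ideal.Quotient.mkₐ k (idealU lam)
  have hprod : toConv ((Bialgebra.comulAlgHom k (A ⧸ idealU lam)).comp q) =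
      toConv (l.comp q) * toConv (r.comp q) := by
    apply WithConv.ofConv_injective
    apply AlgHom.ext
    intro x
    rw [AlgHom.convMul_apply]
    show TensorProduct.map q.toLinearMap q.toLinearMap (Coalgebra.comul (R := k) x) = _
    generalize Coalgebra.comul (R := k) x = y
    induction y using TensorProduct.induction_on with
    | zero => simp
    | tmul a b => simp [l, r, q]
    | add p q hp hq => simp only [map_add, hp, hq]
  have h := congrArg (orb lam) hprod
  rw [map_mul, show toConv (l.comp q) = mapPt l (quotPt (idealU lam)) from rfl,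
    show toConv (r.comp q) = mapPt r (quotPt (idealU lam)) from rfl,
    show toConv ((Bialgebra.comulAlgHom k (A ⧸ idealU lam)).comp q) =
      mapPt (Bialgebra.comulAlgHom k (A ⧸ idealU lam)) (quotPt (idealU lam)) from rfl,
    ← orb_natural, ← orb_natural, ← orb_natural] at h
  have h2 := congrArg (fun g : Pt k A ((A ⧸ idealU lam) ⊗[k] (A ⧸ idealU lam))[T;T⁻¹] => g.ofConv a) h
  simp only [mapPt_apply, AlgHom.convMul_apply] at h2
  rw [coactU_mk]
  refine Eq.trans ?_ h2.symm
  show coactU₂ lam (TensorProduct.map q.toLinearMap q.toLinearMap (Coalgebra.comul (R := k) a)) = _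
  generalize Coalgebra.comul (R := k) a = y
  induction y using TensorProduct.induction_on with
  | zero => simp
  | tmul a b => simp [coactU₂, l, r, q, coactU_mk]
  | add p q hp hq => simp only [map_add, hp, hq]

theorem coeff_coactU₂_map (i j : ℤ) (y : (A ⧸ idealU lam) ⊗[k] (A ⧸ idealU lam)) :
    TensorProduct.map (prU lam i) (prU lam j) ((coactU₂ lam y).coeff (i + j)) =
      TensorProduct.map (prU lam i) (prU lam j) y := by
  induction y using TensorProduct.induction_on with
  | zero => simp
  | add p q hp hq => simp only [map_add, AddMonoidAlgebra.coeff_add, Finsupp.add_apply, hp, hq]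
  | tmul x y =>
    conv_lhs => rw [← sum_prU lam x, ← sum_prU lam y]
    conv_rhs => rw [← sum_prU lam x, ← sum_prU lam y]
    simp only [TensorProduct.sum_tmul, TensorProduct.tmul_sum, map_sum,
      AddMonoidAlgebra.coeff_sum, Finsupp.finsetSum_apply]
    refine Finset.sum_congr rfl fun b _ => Finset.sum_congr rfl fun a _ => ?_
    simp only [coactU₂, Algebra.TensorProduct.lift_tmul, AlgHom.comp_apply, coactU_prU,
      AddMonoidAlgebra.mapAlgHom_single, AddMonoidAlgebra.single_mul_single,
      AddMonoidAlgebra.coeff_single, Algebra.TensorProduct.includeLeft_apply,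
      Algebra.TensorProduct.includeRight_apply, Algebra.TensorProduct.tmul_mul_tmul, mul_one,
      one_mul]
    by_cases h : i + j = a + b
    · rw [h, Finsupp.single_eq_same]
    · rw [Finsupp.single_eq_of_ne h, map_zero, TensorProduct.map_tmul, prU_prU, prU_prU]
      split_ifs with h1 h2
      · omega
      all_goals simp

theorem map_prU_comul (i j : ℤ) (b : (A ⧸ idealU lam)) :
    TensorProduct.map (prU lam i) (prU lam j) (Coalgebra.comul (R := k) b) =
      TensorProduct.map (prU lam i) (prU lam j) (Coalgebra.comul (R := k) (prU lam (i + j) b)) := by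
  rw [← coeff_coactU₂_map lam i j, coactU₂_comul, AddMonoidAlgebra.coeff_mapAlgHom]
  rfl

variable {V : Type u} [AddCommGroup V] [Module k V] [HopfRep.Comod k (A ⧸ idealU lam) V]

/-- The graded parts of a coaction. -/
noncomputable def coactPart (n : ℤ) : V →ₗ[k] V ⊗[k] (A ⧸ idealU lam) :=
  (prU lam n).lTensor V ∘ₗ HopfRep.Comod.coact (k := k) (A := (A ⧸ idealU lam))

theorem coactPart_coactPart (i j : ℤ) (v : V) (h : coactPart lam (i + j) v = 0) :
    (coactPart lam i).rTensor (A ⧸ idealU lam) (coactPart lam j v) = 0 := by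
  apply (TensorProduct.assoc k V (A ⧸ idealU lam) (A ⧸ idealU lam)).injective
  rw [map_zero]
  have hc := LinearMap.congr_fun (HopfRep.Comod.coassoc (k := k) (A := (A ⧸ idealU lam)) (V := V)) v
  simp only [LinearMap.comp_apply, LinearEquiv.coe_coe] at hc
  have e1 : ∀ z : V ⊗[k] (A ⧸ idealU lam), TensorProduct.assoc k V (A ⧸ idealU lam) (A ⧸ idealU lam)
      ((coactPart lam i).rTensor (A ⧸ idealU lam) ((prU lam j).lTensor V z)) =
      (TensorProduct.map (prU lam i) (prU lam j)).lTensor V (TensorProduct.assoc k V (A ⧸ idealU lam) (A ⧸ idealU lam)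
        ((HopfRep.Comod.coact (k := k) (A := (A ⧸ idealU lam))).rTensor (A ⧸ idealU lam) z)) := by
    intro z
    induction z using TensorProduct.induction_on with
    | zero => simp
    | add p q hp hq => simp only [map_add, hp, hq]
    | tmul w b =>
      simp only [LinearMap.lTensor_tmul, LinearMap.rTensor_tmul, coactPart, LinearMap.comp_apply]
      generalize HopfRep.Comod.coact (k := k) (A := (A ⧸ idealU lam)) w = y
      induction y using TensorProduct.induction_on with
      | zero => simp
      | add p q hp hq => simp only [map_add, TensorProduct.add_tmul, hp, hq]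
      | tmul w c => simp
  show TensorProduct.assoc k V (A ⧸ idealU lam) (A ⧸ idealU lam) ((coactPart lam i).rTensor (A ⧸ idealU lam)
    ((prU lam j).lTensor V (HopfRep.Comod.coact (k := k) (A := (A ⧸ idealU lam)) v))) = 0
  rw [e1, hc]
  have e2 : ∀ z : V ⊗[k] (A ⧸ idealU lam), (TensorProduct.map (prU lam i) (prU lam j)).lTensor V
      ((CoalgebraStruct.comul (R := k) (A := (A ⧸ idealU lam))).lTensor V z) =
      (TensorProduct.map (prU lam i) (prU lam j)).lTensor V
        ((CoalgebraStruct.comul (R := k) (A := (A ⧸ idealU lam))).lTensor V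
          ((prU lam (i + j)).lTensor V z)) := by
    intro z
    induction z using TensorProduct.induction_on with
    | zero => simp
    | add p q hp hq => simp only [map_add, hp, hq]
    | tmul w b => simp only [LinearMap.lTensor_tmul, ← map_prU_comul]
  rw [e2]
  rw [show (prU lam (i + j)).lTensor V (HopfRep.Comod.coact (k := k) (A := (A ⧸ idealU lam)) v) = 0 from h]
  simp

theorem coactPart_neg (n : ℤ) (hn : n < 0) : coactPart (V := V) lam n = 0 := by
  have : prU lam n = 0 := LinearMap.ext fun b => prU_neg lam n hn b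
  rw [coactPart, this, LinearMap.lTensor_zero, LinearMap.zero_comp]

theorem coactPart_zero (v : V) : coactPart lam 0 v = v ⊗ₜ[k] (1 : (A ⧸ idealU lam)) := by
  have : prU lam 0 = (Algebra.linearMap k (A ⧸ idealU lam)) ∘ₗ Coalgebra.counit (R := k) :=
    LinearMap.ext fun b => prU_zero lam b
  rw [coactPart, this, LinearMap.lTensor_comp]
  have hc := LinearMap.congr_fun (HopfRep.Comod.counit_comp (k := k) (A := (A ⧸ idealU lam)) (V := V)) v
  simp only [LinearMap.comp_apply, LinearMap.flip_apply, TensorProduct.mk_apply] at hc ⊢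
  rw [hc, LinearMap.lTensor_tmul, Algebra.linearMap_apply, map_one]

theorem exists_bound (z : V ⊗[k] (A ⧸ idealU lam)) : ∃ N : ℕ, (∀ n : ℤ, N < n → (prU lam n).lTensor V z = 0) ∧
    ∑ n ∈ Finset.range (N + 1), (prU lam n).lTensor V z = z := by
  suffices h : ∃ N : ℕ, (∀ n : ℤ, N < n → (prU lam n).lTensor V z = 0) ∧
      ∀ M, N ≤ M → ∑ n ∈ Finset.range (M + 1), (prU lam n).lTensor V z = z by
    obtain ⟨N, h1, h2⟩ := h
    exact ⟨N, h1, h2 N le_rfl⟩
  induction z using TensorProduct.induction_on with
  | zero => exact ⟨0, by simp, by simp⟩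
  | add p q hp hq =>
    obtain ⟨N, h1, h2⟩ := hp
    obtain ⟨N', h1', h2'⟩ := hq
    refine ⟨max N N', fun n hn => ?_, fun M hM => ?_⟩
    · rw [map_add, h1 n (lt_of_le_of_lt (by exact_mod_cast le_max_left N N') hn),
        h1' n (lt_of_le_of_lt (by exact_mod_cast le_max_right N N') hn), add_zero]
    · simp only [map_add, Finset.sum_add_distrib, h2 M (le_trans (le_max_left _ _) hM),
        h2' M (le_trans (le_max_right _ _) hM)]
  | tmul w b =>
    let S := (coactU lam b).coeff.support
    have hS : ∀ n : ℤ, n ∉ S → prU lam n b = 0 := fun n h => Finsupp.notMem_support_iff.1 h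
    refine ⟨S.sup Int.toNat, fun n hn => ?_, fun M hM => ?_⟩
    · rw [LinearMap.lTensor_tmul, hS n, TensorProduct.tmul_zero]
      intro h
      have := Finset.le_sup (f := Int.toNat) h
      omega
    · simp only [LinearMap.lTensor_tmul, ← TensorProduct.tmul_sum]
      congr 1
      conv_rhs => rw [← sum_prU lam b]
      symm
      refine Finset.sum_of_injOn (fun n : ℤ => n.toNat) ?_ ?_ ?_ ?_
      · intro a ha c hc h
        have h1 : 0 ≤ a := le_of_not_gt fun h => Finsupp.mem_support_iff.1 ha (prU_neg lam a h b)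
        have h2 : 0 ≤ c := le_of_not_gt fun h => Finsupp.mem_support_iff.1 hc (prU_neg lam c h b)
        simp only at h
        omega
      · intro a ha
        have : a.toNat ≤ S.sup Int.toNat := Finset.le_sup (f := Int.toNat) ha
        simp only [Finset.coe_range, Set.mem_Iio]
        omega
      · intro n _ hn
        refine hS _ fun h => hn ⟨(n : ℤ), h, ?_⟩
        simp
      · intro a ha
        have h1 : 0 ≤ a := le_of_not_gt fun h => Finsupp.mem_support_iff.1 ha (prU_neg lam a h b)
        rw [Int.toNat_of_nonneg h1]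

end Unipotent

end Groth.Agent.DynLib

namespace Groth.Agent.DynLib

attribute [-simp] LaurentPolynomial.single_eq_C_mul_T

/-- The contracted subgroup is unipotent. -/
theorem isUnipotent_quotient_idealU {k : Type u} [Field k] {A : Type u} [CommRing A]
    [HopfAlgebra k A] (lam : A →ₐc[k] k[T;T⁻¹]) [(idealU lam).IsHopfIdeal k] :
    HopfRep.IsUnipotent k (A ⧸ idealU lam) := by
  intro V _ _ _ hfin hnt
  classical
  let ρ := HopfRep.Comod.coact (k := k) (A := A ⧸ idealU lam) (V := V)
  obtain ⟨s, hs⟩ := hfin.fg_top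
  choose N hN hN' using fun v : V => exists_bound lam (ρ v)
  let M := s.sup N
  have hM : ∀ n : ℤ, M < n → ∀ v : V, coactPart lam n v = 0 := by
    intro n hn v
    have : Submodule.span k (s : Set V) ≤ LinearMap.ker (coactPart (V := V) lam n) :=
      Submodule.span_le.2 fun w hw => hN w n (lt_of_le_of_lt
        (by exact_mod_cast Finset.le_sup (f := N) hw) hn)
    exact this (by rw [hs]; exact Submodule.mem_top)
  let F : ℕ → Prop := fun m => ∃ v : V, v ≠ 0 ∧ ∀ n : ℤ, m < n → coactPart lam n v = 0
  have hF : ∃ m, F m := by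
    obtain ⟨v, hv⟩ := exists_ne (0 : V)
    exact ⟨M, v, hv, fun n hn => hM n hn v⟩
  obtain ⟨v, hv, hv'⟩ := Nat.find_spec hF
  have hzero : ∃ w : V, w ≠ 0 ∧ ∀ n : ℤ, 0 < n → coactPart lam n w = 0 := by
    by_cases hm : Nat.find hF = 0
    · exact ⟨v, hv, fun n hn => hv' n (by omega)⟩
    by_contra hne
    push Not at hne
    have hz : coactPart lam (Nat.find hF) v = 0 := by
      let Ψ : V →ₗ[k] (Fin M → V ⊗[k] (A ⧸ idealU lam)) :=
        LinearMap.pi fun i => coactPart lam ((i : ℤ) + 1)
      have hΨ : LinearMap.ker Ψ = ⊥ := by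
        rw [Submodule.eq_bot_iff]
        intro w hw
        by_contra hw0
        obtain ⟨n, hn, hn'⟩ := hne w hw0
        apply hn'
        by_cases hnM : (M : ℤ) < n
        · exact hM n hnM w
        · have := congrFun (LinearMap.mem_ker.1 hw) ⟨(n - 1).toNat, by omega⟩
          simp only [Ψ, LinearMap.pi_apply, Pi.zero_apply] at this
          rwa [Int.toNat_of_nonneg (by omega), sub_add_cancel] at this
      obtain ⟨L, hL⟩ := Ψ.exists_leftInverse_of_injective hΨ
      have hid : ∑ i : Fin M, (L ∘ₗ LinearMap.single k _ i) ∘ₗ coactPart lam ((i : ℤ) + 1) =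
          LinearMap.id := by
        ext w
        rw [← LinearMap.congr_fun hL w, LinearMap.sum_apply]
        simp only [LinearMap.comp_apply, ← map_sum]
        congr 1
        exact Finset.univ_sum_single (Ψ w)
      have := LinearMap.congr_fun (congrArg (LinearMap.rTensor (A ⧸ idealU lam)) hid)
        (coactPart lam (Nat.find hF) v)
      rw [LinearMap.rTensor_id, LinearMap.id_apply] at this
      rw [← this]
      simp only [← LinearMap.coe_rTensorHom, map_sum, LinearMap.sum_apply]
      refine Finset.sum_eq_zero fun i _ => ?_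
      simp only [LinearMap.coe_rTensorHom, LinearMap.rTensor_comp, LinearMap.comp_apply]
      rw [coactPart_coactPart lam _ _ _ (hv' _ (by omega)), map_zero, map_zero]
    refine Nat.find_min hF (m := Nat.find hF - 1) (by omega) ⟨v, hv, fun n hn => ?_⟩
    rcases eq_or_lt_of_le (show (Nat.find hF : ℤ) ≤ n by omega) with h | h
    · rw [← h]; exact hz
    · exact hv' n h
  obtain ⟨w, hw, hw'⟩ := hzero
  rw [Submodule.ne_bot_iff]
  refine ⟨w, ?_, hw⟩
  show ρ w = w ⊗ₜ 1
  rw [← hN' w, ← coactPart_zero lam w]
  rw [Finset.sum_eq_single 0]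
  · rfl
  · intro n _ hn
    exact hw' n (by omega)
  · intro h; simp at h

end Groth.Agent.DynLib
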