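import Groth.Agent.DynLib.Field
import Groth.Agent.GrpSchLib.GLnDiag
import Groth.Agent.S3019
import Groth.Agent.S16480

/-!
The open cell of an affine group of finite type over a field.
-/

universe u

open WithConv LaurentPolynomial AlgebraicGeometry
open scoped TensorProduct

namespace Groth.Agent.DynLib

attribute [local instance] ptGroup

theorem formallySmooth_GLn_dyn (k : Type u) [CommRing k] (n : ℕ) :
    Algebra.FormallySmooth k (CoordGrp.GLn n k) := by
  refine Algebra.FormallySmooth.of_comp_surjective fun B _ _ I hI f => ?_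
  let M : Matrix (Fin n) (Fin n) B := fun i j =>
    (Ideal.Quotient.mk_surjective (f (CoordGrp.GLn.X i j))).choose
  have hM : M.map (Ideal.Quotient.mkₐ k I) = GrpSchLib.GLnDiag.mat f := Matrix.ext fun i j =>
    (Ideal.Quotient.mk_surjective (f (CoordGrp.GLn.X i j))).choose_spec
  obtain ⟨d, hd⟩ := Ideal.Quotient.mk_surjective (f CoordGrp.GLn.Dinv)
  have hu : IsUnit (M.det * d) := by
    have h1 : Ideal.Quotient.mkₐ k I (M.det * d - 1) = 0 := by
      rw [map_sub, map_mul, AlgHom.map_det, map_one, AlgHom.mapMatrix_apply, hM]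
      show (GrpSchLib.GLnDiag.mat f).det * Ideal.Quotient.mk I d - 1 = 0
      rw [hd, GrpSchLib.GLnDiag.det_mat, sub_self]
    have h2 : IsNilpotent (M.det * d - 1) := ⟨2, by
      have := Ideal.pow_mem_pow (Ideal.Quotient.eq_zero_iff_mem.mp h1) 2
      rwa [hI, Ideal.mem_bot] at this⟩
    simpa using h2.isUnit_add_one
  obtain ⟨g, hg⟩ := GrpSchLib.GLnDiag.exists_pt (k := k) M
    ((Matrix.isUnit_iff_isUnit_det M).mpr (isUnit_of_mul_isUnit_left hu))
  exact ⟨g, GrpSchLib.GLnDiag.ext_mat (by rw [GrpSchLib.GLnDiag.mat_comp, hg, hM])⟩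

theorem isOpenImmersion_mulMap_field (k : Type u) [Field k] (A : Type u) [CommRing A]
    [HopfAlgebra k A] [Algebra.FiniteType k A] (lam lamNeg : A →ₐc[k] k[T;T⁻¹])
    (hneg : (lamNeg : A →ₐ[k] k[T;T⁻¹]) = Dyn.negParam k A lam) :
    IsOpenImmersion
      (Spec.map (CommRingCat.ofHom (mulMap k (idealU lamNeg) (idealP lam)).toRingHom)) := by
  obtain ⟨n, π, hπ⟩ := Groth.Agent.S16480.result k A
  have := formallySmooth_GLn_dyn k n
  have : Algebra.FiniteType k (CoordGrp.GLn n k) :=
    @Algebra.FiniteType.of_surjective _ _ _ _ _ _ _ _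
      (inferInstance : Algebra.FiniteType k (MvPolynomial (CoordGrp.GLPoly.Idx n) k))
      (CoordGrp.GLn.mk n k) Ideal.Quotient.mk_surjective
  have hH : (RingHom.ker (π : CoordGrp.GLn n k →ₐ[k] A)).IsHopfIdeal k :=
    isHopfIdeal_of_subgroup _ (fun R _ _ => (compPt R π).range)
      fun R _ _ g => (mem_range_compPt π hπ g).symm
  obtain ⟨V, hV1, hV2, hV3, -, v, -, hK⟩ := @Groth.Agent.S3019.result k _ (CoordGrp.GLn n k) _ _ _
    (RingHom.ker (π : CoordGrp.GLn n k →ₐ[k] A)) hH
  have : Algebra.FinitePresentation k A := Algebra.FinitePresentation.of_finiteType.mp inferInstance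
  exact isOpenImmersion_mulMap_of_formallyEtale lam lamNeg hneg
    (formallyEtale_mulMap_of_line π hπ lam lamNeg hneg v hK)

end Groth.Agent.DynLib
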