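import Groth.Agent.DynLib.Open
import Groth.Agent.DynLib.Contract
import Groth.Agent.GrpSchLib.FieldComp
import Groth.Agent.GrpSchLib.AffineHopf

/-!
Connectedness of the dynamic subgroups over a field.
-/

universe u

open WithConv LaurentPolynomial AlgebraicGeometry CategoryTheory MonoidalCategory MonObj
open scoped TensorProduct

namespace Groth.Agent.DynLib

attribute [local instance] ptGroup
attribute [-simp] LaurentPolynomial.single_eq_C_mul_T

/-- The opposite one-parameter subgroup as a bialgebra map. -/
theorem exists_lamNeg {k : Type u} [CommRing k] {A : Type u} [CommRing A] [HopfAlgebra k A]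
    (lam : A →ₐc[k] k[T;T⁻¹]) :
    ∃ lamNeg : A →ₐc[k] k[T;T⁻¹], (lamNeg : A →ₐ[k] k[T;T⁻¹]) = Dyn.negParam k A lam := by
  refine ⟨(AddMonoidAlgebra.mapDomainBialgHom k (-AddMonoidHom.id ℤ)).comp lam,
    AlgHom.ext fun a => ?_⟩
  show AddMonoidAlgebra.mapDomainBialgHom k (-AddMonoidHom.id ℤ) (lam a) =
    LaurentPolynomial.invert (lam a)
  generalize lam a = p
  induction p using AddMonoidAlgebra.induction_linear with
  | zero => simp
  | add p q hp hq => simp only [map_add, hp, hq]
  | single m r => simp [LaurentPolynomial.invert]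

theorem preconnectedSpace_of_idempotents {B : Type u} [CommRing B]
    (h : ∀ e : B, IsIdempotentElem e → e = 0 ∨ e = 1) : PreconnectedSpace (PrimeSpectrum B) := by
  rw [preconnectedSpace_iff_clopen]
  intro s hs
  obtain ⟨e, f, hef, he1, rfl⟩ := PrimeSpectrum.isClopen_iff_mul_add.1 hs
  rcases h e (IsIdempotentElem.of_mul_add hef he1).1 with rfl | rfl <;> simp

theorem idempotents_of_preconnectedSpace {B : Type u} [CommRing B]
    [PreconnectedSpace (PrimeSpectrum B)] (e : B) (he : IsIdempotentElem e) : e = 0 ∨ e = 1 := by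
  have hs : IsClopen (PrimeSpectrum.basicOpen e : Set (PrimeSpectrum B)) :=
    PrimeSpectrum.isClopen_iff_mul_add.2 ⟨e, 1 - e, by rw [mul_sub, _root_.mul_one, he.eq, sub_self],
      add_sub_cancel e 1, rfl⟩
  rcases isClopen_iff.1 hs with h | h
  · exact .inl (PrimeSpectrum.basicOpen_injOn_isIdempotentElem he IsIdempotentElem.zero
      (SetLike.ext' (by simpa using h)))
  · exact .inr (PrimeSpectrum.basicOpen_injOn_isIdempotentElem he IsIdempotentElem.one
      (SetLike.ext' (by simpa using h)))

/-- The spectrum of a Hopf algebra over a field without idempotents is irreducible. -/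
theorem irreducibleSpace_of_idempotents {k : Type u} [Field k] {A : Type u} [CommRing A]
    [HopfAlgebra k A] (h : ∀ e : A, IsIdempotentElem e → e = 0 ∨ e = 1) :
    IrreducibleSpace (PrimeSpectrum A) := by
  have := preconnectedSpace_of_idempotents h
  let G := GrpSchLib.AffineHopf.sp k A
  obtain ⟨g, hg, hge⟩ := GrpSchLib.exists_isMaxPt
    ((η[G] : 𝟙_ _ ⟶ G).left (IsLocalRing.closedPoint k))
  have hc := GrpSchLib.connectedComponent_one hg hge
  have hu : connectedComponent ((η[G] : 𝟙_ _ ⟶ G).left (IsLocalRing.closedPoint k)) =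
      (Set.univ : Set G.left) :=
    @PreconnectedSpace.connectedComponent_eq_univ G.left _
      (inferInstanceAs (PreconnectedSpace (PrimeSpectrum A))) _
  rw [hu] at hc
  show IrreducibleSpace G.left
  rw [irreducibleSpace_def, Set.top_eq_univ, hc]
  exact isIrreducible_singleton.closure

theorem idempotents_quotient_idealP {k : Type u} [Field k] {A : Type u} [CommRing A]
    [HopfAlgebra k A] [Algebra.FiniteType k A] (lam : A →ₐc[k] k[T;T⁻¹])
    (h : ∀ e : A, IsIdempotentElem e → e = 0 ∨ e = 1)
    (e : A ⧸ idealP lam) (he : IsIdempotentElem e) : e = 0 ∨ e = 1 := by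
  obtain ⟨lamNeg, hneg⟩ := exists_lamNeg lam
  have hirr := irreducibleSpace_of_idempotents (k := k) h
  have : PreirreducibleSpace ↥(Spec (CommRingCat.of A)) :=
    inferInstanceAs (PreirreducibleSpace (PrimeSpectrum A))
  let C := (A ⧸ idealU lamNeg) ⊗[k] (A ⧸ idealP lam)
  have hopen := isOpenImmersion_mulMap_field k A lam lamNeg hneg
  have hpre : PreirreducibleSpace (PrimeSpectrum C) :=
    (Scheme.Hom.isOpenEmbedding (Spec.map (CommRingCat.ofHom
      (mulMap k (idealU lamNeg) (idealP lam)).toRingHom))).preirreducibleSpace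
      
  have : PreconnectedSpace (PrimeSpectrum C) := PreirreducibleSpace.preconnectedSpace _
  have hone : idealU lamNeg ≤ RingHom.ker (Bialgebra.counitAlgHom k A) := fun a ha => by
    have h1 := (le_ker_idealU_iff lamNeg (1 : Pt k A k)).2
      ((mem_limOneSubgroup lamNeg _).1 (one_mem _)) ha
    simpa using h1
  let r : C →ₐ[k] A ⧸ idealP lam := Algebra.TensorProduct.lift
    ((Algebra.ofId k (A ⧸ idealP lam)).comp (Ideal.Quotient.liftₐ _ (Bialgebra.counitAlgHom k A) hone))
    (AlgHom.id k _) fun _ _ => .all ..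
  let i : A ⧸ idealP lam →ₐ[k] C := Algebra.TensorProduct.includeRight
  have hri : r (i e) = e := (Algebra.TensorProduct.lift_tmul ..).trans (by simp)
  rcases idempotents_of_preconnectedSpace (i e) (he.map i) with h1 | h1
  · left; rw [← hri, h1, map_zero]
  · right; rw [← hri, h1, map_one]

end Groth.Agent.DynLib
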