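import Groth.Agent.DynLib.Contract
import Groth.Agent.ComodLib.Points
import Groth.Prelude.Def_SGA3

/-!
The open cell of an affine group over a field, by reduction to the stabilizer of a line.
-/

universe u

open WithConv LaurentPolynomial AlgebraicGeometry
open scoped TensorProduct

namespace Groth.Agent.DynLib

attribute [local instance] ptGroup
attribute [-simp] LaurentPolynomial.single_eq_C_mul_T

variable {k : Type u} [CommRing k] {A A' : Type u} [CommRing A] [HopfAlgebra k A]
  [CommRing A'] [HopfAlgebra k A'] {R : Type u} [CommRing R] [Algebra k R]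

variable (R) in
/-- Composition of points with a homomorphism of Hopf algebras. -/
noncomputable def compPt (π : A' →ₐc[k] A) : Pt k A R →* Pt k A' R where
  toFun g := toConv (g.ofConv.comp (π : A' →ₐ[k] A))
  map_one' := by
    apply WithConv.ofConv_injective
    apply AlgHom.ext
    intro a
    simp [AlgHom.convOne_apply, CoalgHomClass.counit_comp_apply]
  map_mul' g h := by
    rw [AlgHom.convMul_comp_bialgHom_distrib, toConv_ofConv]

@[simp] theorem compPt_apply (π : A' →ₐc[k] A) (g : Pt k A R) (a : A') :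
    (compPt R π g).ofConv a = g.ofConv (π a) := rfl

theorem compPt_injective (π : A' →ₐc[k] A) (hπ : Function.Surjective π) :
    Function.Injective (compPt R π) := by
  intro g h e
  apply WithConv.ofConv_injective
  apply AlgHom.ext
  intro a
  obtain ⟨x, rfl⟩ := hπ a
  exact congrArg (fun t : Pt k A' R => t.ofConv x) e

theorem mapPt_compPt {S : Type u} [CommRing S] [Algebra k S] (π : A' →ₐc[k] A) (f : R →ₐ[k] S)
    (g : Pt k A R) : mapPt f (compPt R π g) = compPt S π (mapPt f g) := rfl

theorem orb_compPt (π : A' →ₐc[k] A) (lam : A →ₐc[k] k[T;T⁻¹]) (g : Pt k A R) :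
    orb (lam.comp π) (compPt R π g) = compPt R[T;T⁻¹] π (orb lam g) := by
  rw [orb_apply, orb_apply, map_mul, map_mul, map_inv, mapPt_compPt]
  rfl

theorem hasLim_compPt (π : A' →ₐc[k] A) (hπ : Function.Surjective π) (lam : A →ₐc[k] k[T;T⁻¹])
    (g : Pt k A R) : HasLim (lam.comp π) (compPt R π g) ↔ HasLim lam g := by
  have key : ∀ x n, (compPt R π g).ofConv (pr (lam.comp π) n x) = g.ofConv (pr lam n (π x)) := by
    intro x n
    rw [← coeff_orb, orb_compPt, compPt_apply, coeff_orb]
  constructor
  · intro h a n hn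
    obtain ⟨x, rfl⟩ := hπ a
    rw [← key]
    exact h x n hn
  · intro h x n hn
    rw [key]
    exact h _ n hn

theorem hasLimOne_compPt (π : A' →ₐc[k] A) (hπ : Function.Surjective π)
    (lam : A →ₐc[k] k[T;T⁻¹]) (g : Pt k A R) :
    HasLimOne (lam.comp π) (compPt R π g) ↔ HasLimOne lam g := by
  have key : ∀ x, (compPt R π g).ofConv (pr (lam.comp π) 0 x) = g.ofConv (pr lam 0 (π x)) := by
    intro x
    rw [← coeff_orb, orb_compPt, compPt_apply, coeff_orb]
  refine and_congr (hasLim_compPt π hπ lam g) ⟨fun h a => ?_, fun h x => ?_⟩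
  · obtain ⟨x, rfl⟩ := hπ a
    rw [← key, h x, CoalgHomClass.counit_comp_apply]
  · rw [key, h, CoalgHomClass.counit_comp_apply]

theorem mem_range_compPt (π : A' →ₐc[k] A) (hπ : Function.Surjective π) (g : Pt k A' R) :
    g ∈ (compPt R π).range ↔ RingHom.ker (π : A' →ₐ[k] A) ≤ RingHom.ker g.ofConv := by
  constructor
  · rintro ⟨h, rfl⟩ x hx
    rw [RingHom.mem_ker] at hx ⊢
    rw [compPt_apply]
    exact (congrArg h.ofConv hx).trans (map_zero _)
  · intro h
    let e := Ideal.quotientKerAlgEquivOfSurjective (f := (π : A' →ₐ[k] A)) hπ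
    refine ⟨toConv ((Ideal.Quotient.liftₐ _ g.ofConv h).comp e.symm.toAlgHom), ?_⟩
    apply WithConv.ofConv_injective
    apply AlgHom.ext
    intro x
    rw [compPt_apply, ofConv_toConv, AlgHom.comp_apply]
    have : e.symm (π x) = Ideal.Quotient.mk _ x := e.injective (by
      rw [AlgEquiv.apply_symm_apply]
      rfl)
    show Ideal.Quotient.liftₐ _ g.ofConv h (e.symm (π x)) = _
    rw [this]
    rfl

section Stab

variable {V : Type u} [AddCommGroup V] [Module k V] [HopfRep.Comod k A' V]
  {ι : Type u} [DecidableEq ι] (b : Module.Basis ι k V) (v : V)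

/-- The coordinates of the translate of `v`. -/
noncomputable def trans (g : Pt k A' R) : ι →₀ R :=
  TensorProduct.equivFinsuppOfBasisLeft b
    (LinearMap.lTensor V g.ofConv.toLinearMap (HopfRep.Comod.coact (k := k) (A := A') v))

/-- The matrix coefficients of `v`. -/
noncomputable def mcoeff (i : ι) : A' :=
  TensorProduct.equivFinsuppOfBasisLeft b (HopfRep.Comod.coact (k := k) (A := A') v) i

theorem trans_apply (g : Pt k A' R) (i : ι) : trans b v g i = g.ofConv (mcoeff b v i) := by
  simp only [trans, mcoeff]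
  generalize HopfRep.Comod.coact (k := k) (A := A') v = y
  induction y using TensorProduct.induction_on with
  | zero => simp
  | tmul w a =>
    simp only [LinearMap.lTensor_tmul, TensorProduct.equivFinsuppOfBasisLeft_apply_tmul_apply,
      map_smul, AlgHom.toLinearMap_apply]
  | add p q hp hq => simp only [map_add, Finsupp.add_apply, hp, hq]

theorem stabilizesLine_iff (g : Pt k A' R) :
    SGA3.StabilizesLine k A' v R g.ofConv ↔ ∃ c : R, ∀ i,
      g.ofConv (mcoeff b v i) = c * algebraMap k R (b.repr v i) := by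
  refine exists_congr fun c => ?_
  rw [← (TensorProduct.equivFinsuppOfBasisLeft b).injective.eq_iff, Finsupp.ext_iff]
  refine forall_congr' fun i => ?_
  rw [show TensorProduct.equivFinsuppOfBasisLeft b _ i = trans b v g i from rfl, trans_apply,
    TensorProduct.equivFinsuppOfBasisLeft_apply_tmul_apply, Algebra.smul_def, mul_comm]

theorem convMul_apply_mcoeff (g h : Pt k A' R) (c : R)
    (hc : ∀ i, h.ofConv (mcoeff b v i) = c * algebraMap k R (b.repr v i)) (i : ι) :
    (g * h).ofConv (mcoeff b v i) = c * g.ofConv (mcoeff b v i) := by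
  have hh : LinearMap.lTensor V h.ofConv.toLinearMap (HopfRep.Comod.coact (k := k) (A := A') v) =
      v ⊗ₜ c := by
    apply (TensorProduct.equivFinsuppOfBasisLeft b).injective
    ext j
    rw [show TensorProduct.equivFinsuppOfBasisLeft b _ j = trans b v h j from rfl, trans_apply,
      hc, TensorProduct.equivFinsuppOfBasisLeft_apply_tmul_apply, Algebra.smul_def, mul_comm]
  have e : ComodLib.ptEnd (V := V) (g * h).ofConv ((1 : R) ⊗ₜ[k] v) =
      c • ComodLib.ptEnd (V := V) g.ofConv ((1 : R) ⊗ₜ[k] v) := by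
    rw [ComodLib.ptEnd_convMul, Module.End.mul_apply, ComodLib.ptEnd_one_tmul h.ofConv, hh,
      TensorProduct.comm_tmul, show c ⊗ₜ[k] v = c • ((1 : R) ⊗ₜ[k] v) by
        rw [TensorProduct.smul_tmul', smul_eq_mul, mul_one], map_smul]
  rw [ComodLib.ptEnd_one_tmul, ComodLib.ptEnd_one_tmul] at e
  rw [← trans_apply, ← trans_apply]
  have key : ∀ (y : V ⊗[k] R) (z : V ⊗[k] R),
      TensorProduct.comm k V R z = c • TensorProduct.comm k V R y →
      TensorProduct.equivFinsuppOfBasisLeft b z i =
        c * TensorProduct.equivFinsuppOfBasisLeft b y i := by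
    intro y z hz
    have hy : ∀ y : V ⊗[k] R,
        c • TensorProduct.comm k V R y = TensorProduct.comm k V R
          ((LinearMap.mulLeft k c).lTensor V y) := by
      intro y
      induction y using TensorProduct.induction_on with
      | zero => simp
      | tmul w r => simp [TensorProduct.smul_tmul']
      | add p q hp hq => simp only [map_add, smul_add, hp, hq]
    rw [hy] at hz
    rw [(TensorProduct.comm k V R).injective hz]
    clear hz hy z
    induction y using TensorProduct.induction_on with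
    | zero => simp
    | tmul w r => simp [TensorProduct.equivFinsuppOfBasisLeft_apply_tmul_apply]
    | add p q hp hq => simp only [map_add, Finsupp.add_apply, hp, hq, mul_add]
  exact key _ _ e

theorem counit_mcoeff (i : ι) :
    (1 : Pt k A' R).ofConv (mcoeff b v i) = 1 * algebraMap k R (b.repr v i) := by
  rw [← trans_apply]
  simp only [trans]
  rw [show (1 : Pt k A' R).ofConv.toLinearMap =
    Algebra.linearMap k R ∘ₗ Coalgebra.counit (R := k) (A := A') from rfl, LinearMap.lTensor_comp,
    LinearMap.comp_apply]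
  have hc := LinearMap.congr_fun (HopfRep.Comod.counit_comp (k := k) (A := A') (V := V)) v
  simp only [LinearMap.comp_apply, LinearMap.flip_apply, TensorProduct.mk_apply] at hc
  rw [hc, LinearMap.lTensor_tmul, Algebra.linearMap_apply, map_one,
    TensorProduct.equivFinsuppOfBasisLeft_apply_tmul_apply, Algebra.smul_def, one_mul, mul_one]

end Stab

end Groth.Agent.DynLib

namespace Groth.Agent.DynLib

attribute [local instance] ptGroup
attribute [-simp] LaurentPolynomial.single_eq_C_mul_T

/-- Both factors of a product in a line stabilizer lie in the stabilizer. -/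
theorem factors_of_product {k : Type u} [Field k] {A A' : Type u} [CommRing A] [HopfAlgebra k A]
    [CommRing A'] [HopfAlgebra k A'] (π : A' →ₐc[k] A) (hπ : Function.Surjective π)
    (lam lamNeg : A →ₐc[k] k[T;T⁻¹])
    (hneg : ((lamNeg.comp π : A' →ₐc[k] k[T;T⁻¹]) : A' →ₐ[k] k[T;T⁻¹]) =
      Dyn.negParam k A' (lam.comp π))
    {V : Type u} [AddCommGroup V] [Module k V] [HopfRep.Comod k A' V] (v : V)
    (hK : Dyn.Represents k A' (RingHom.ker (π : A' →ₐ[k] A))
      (fun R _ _ g => SGA3.StabilizesLine k A' v R g))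
    {R : Type u} [CommRing R] [Algebra k R] (u p : Pt k A' R)
    (hu : HasLimOne (lamNeg.comp π) u) (hp : HasLim (lam.comp π) p)
    (hup : u * p ∈ (compPt R π).range) :
    u ∈ (compPt R π).range ∧ p ∈ (compPt R π).range := by
  classical
  let b := Module.Free.chooseBasis k V
  have hiff : ∀ {S : Type u} [CommRing S] [Algebra k S] (g : Pt k A' S),
      g ∈ (compPt S π).range ↔ ∃ c : S, ∀ i,
        g.ofConv (mcoeff b v i) = c * algebraMap k S (b.repr v i) := by
    intro S _ _ g
    rw [mem_range_compPt π hπ, ← stabilizesLine_iff]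
    exact hK S g.ofConv
  obtain ⟨a, ha⟩ := (hiff _).1 hup
  have hlam : lamPt R (lam.comp π) ∈ (compPt R[T;T⁻¹] π).range := ⟨lamPt R lam, rfl⟩
  obtain ⟨c, hc⟩ := (hiff _).1 hlam
  obtain ⟨c', hc'⟩ := (hiff _).1 (inv_mem hlam)
  have hcc : ∀ i, c' * (c * algebraMap k R[T;T⁻¹] (b.repr v i)) =
      algebraMap k R[T;T⁻¹] (b.repr v i) := by
    intro i
    rw [← hc, ← convMul_apply_mcoeff b v _ _ c' hc' i, mul_inv_cancel, counit_mcoeff, one_mul]
  have hcst : ∀ i, (mapPt (cst k R) (u * p)).ofConv (mcoeff b v i) =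
      cst k R a * algebraMap k R[T;T⁻¹] (b.repr v i) := by
    intro i
    rw [mapPt_apply, ha, map_mul, AlgHom.commutes]
  have horb : ∀ i, (orb (lam.comp π) (u * p)).ofConv (mcoeff b v i) =
      cst k R a * algebraMap k R[T;T⁻¹] (b.repr v i) := by
    intro i
    rw [orb_apply, convMul_apply_mcoeff b v _ _ c' hc', convMul_apply_mcoeff b v _ _ _ hcst, hc]
    linear_combination cst k R a * hcc i
  have hw : HasLimOne (lamNeg.comp π) u⁻¹ :=
    (mem_limOneSubgroup _ _).1 (inv_mem ((mem_limOneSubgroup _ _).2 hu))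
  have hpn : ∀ i n, p.ofConv (pr (lam.comp π) n (mcoeff b v i)) =
      a * u⁻¹.ofConv (pr (lam.comp π) n (mcoeff b v i)) := by
    intro i n
    have e : orb (lam.comp π) p = orb (lam.comp π) u⁻¹ * orb (lam.comp π) (u * p) := by
      rw [← map_mul, inv_mul_cancel_left]
    rw [← coeff_orb, e, convMul_apply_mcoeff b v _ _ _ horb, cst_apply,
      AddMonoidAlgebra.coeff_single_mul_eq_mul_coeff n (fun _ _ => by simp), coeff_orb]
  have hmem : p ∈ (compPt R π).range := by
    refine (hiff _).2 ⟨a, fun i => ?_⟩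
    conv_lhs => rw [← sum_pr (lam.comp π) (mcoeff b v i), map_sum]
    rw [Finset.sum_eq_single (0 : ℤ)]
    · have h0 := hw.2 (mcoeff b v i)
      rw [pr_neg _ _ hneg, neg_zero] at h0
      rw [hpn, h0, ← AlgHom.convOne_apply, counit_mcoeff, one_mul]
    · intro n _ hn
      rcases lt_or_gt_of_ne hn with h | h
      · exact hp _ n h
      · have h0 := hw.1 (mcoeff b v i) (-n) (by omega)
        rw [pr_neg _ _ hneg, neg_neg] at h0
        rw [hpn, h0, mul_zero]
    · intro h
      rw [pr_apply, Finsupp.notMem_support_iff.1 h, map_zero]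
  refine ⟨?_, hmem⟩
  simpa using mul_mem hup (inv_mem hmem)

/-- The open cell over a field. -/
theorem formallyEtale_mulMap_of_line {k : Type u} [Field k] {A A' : Type u} [CommRing A]
    [HopfAlgebra k A] [CommRing A'] [HopfAlgebra k A'] [Algebra.FormallySmooth k A']
    (π : A' →ₐc[k] A) (hπ : Function.Surjective π) (lam lamNeg : A →ₐc[k] k[T;T⁻¹])
    (hneg : (lamNeg : A →ₐ[k] k[T;T⁻¹]) = Dyn.negParam k A lam)
    {V : Type u} [AddCommGroup V] [Module k V] [HopfRep.Comod k A' V] (v : V)
    (hK : Dyn.Represents k A' (RingHom.ker (π : A' →ₐ[k] A))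
      (fun R _ _ g => SGA3.StabilizesLine k A' v R g)) :
    (mulMap k (idealU lamNeg) (idealP lam)).toRingHom.FormallyEtale := by
  have hneg' : ((lamNeg.comp π : A' →ₐc[k] k[T;T⁻¹]) : A' →ₐ[k] k[T;T⁻¹]) =
      Dyn.negParam k A' (lam.comp π) :=
    AlgHom.ext fun x => AlgHom.congr_fun hneg (π x)
  refine formallyEtale_of_points _ (fun _ _ _ _ _ h => comp_mulMap_injective lam lamNeg hneg h)
    fun B _ _ I hI g x₀ hcomp => ?_
  have h1 : idealU (lamNeg.comp π) ≤ RingHom.ker (compPt _ π (fstPt x₀)).ofConv :=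
    (le_ker_idealU_iff _ _).2 ((hasLimOne_compPt π hπ lamNeg _).2
      ((le_ker_idealU_iff _ _).1 (le_ker_fstPt x₀)))
  have h2 : idealP (lam.comp π) ≤ RingHom.ker (compPt _ π (sndPt x₀)).ofConv :=
    (le_ker_idealP_iff _ _).2 ((hasLim_compPt π hπ lam _).2
      ((le_ker_idealP_iff _ _).1 (le_ker_sndPt x₀)))
  obtain ⟨y, hy⟩ := exists_lift_mulMap (lam.comp π) (lamNeg.comp π) hneg' B I hI
    (compPt B π (toConv g)).ofConv (pairPt _ _ h1 h2) (by
      apply WithConv.toConv_injective
      rw [pairPt_comp_mulMap, ← map_mul, ← comp_mulMap, ← hcomp]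
      rfl)
  have hy' := congrArg toConv hy
  rw [comp_mulMap, toConv_ofConv] at hy'
  obtain ⟨⟨u', hu'⟩, ⟨p', hp'⟩⟩ := factors_of_product π hπ lam lamNeg hneg' v hK (fstPt y) (sndPt y)
    ((le_ker_idealU_iff _ _).1 (le_ker_fstPt y)) ((le_ker_idealP_iff _ _).1 (le_ker_sndPt y))
    ⟨toConv g, hy'.symm⟩
  refine ⟨pairPt u' p' ((le_ker_idealU_iff _ _).2 ((hasLimOne_compPt π hπ lamNeg u').1 ?_))
    ((le_ker_idealP_iff _ _).2 ((hasLim_compPt π hπ lam p').1 ?_)), ?_⟩
  · rw [hu']; exact (le_ker_idealU_iff _ _).1 (le_ker_fstPt y)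
  · rw [hp']; exact (le_ker_idealP_iff _ _).1 (le_ker_sndPt y)
  · apply WithConv.toConv_injective
    rw [pairPt_comp_mulMap]
    apply compPt_injective π hπ
    rw [map_mul, hu', hp', hy']

end Groth.Agent.DynLib
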