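import Groth.Agent.DynLib.Smooth
import Mathlib.RingTheory.Etale.Basic
import Mathlib.AlgebraicGeometry.Morphisms.FlatMono
import Mathlib.AlgebraicGeometry.Morphisms.Etale

/-!
The multiplication map from the two opposite dynamic subgroups is an open immersion.
-/

universe u

open WithConv LaurentPolynomial CategoryTheory AlgebraicGeometry
open scoped TensorProduct

namespace Groth.Agent.DynLib

attribute [local instance] ptGroup
attribute [-simp] LaurentPolynomial.single_eq_C_mul_T

variable {k : Type u} [CommRing k] {A : Type u} [CommRing A] [HopfAlgebra k A]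
  {R : Type u} [CommRing R] [Algebra k R]
  (lam lamNeg : A →ₐc[k] k[T;T⁻¹])

variable (k) in
/-- Multiplication out of two closed subschemes. -/
noncomputable def mulMap (J J' : Ideal A) : A →ₐ[k] (A ⧸ J) ⊗[k] (A ⧸ J') :=
  (Algebra.TensorProduct.map (Ideal.Quotient.mkₐ k J) (Ideal.Quotient.mkₐ k J')).comp
    (Bialgebra.comulAlgHom k A)

/-- The left component of a point of the product. -/
noncomputable def fstPt {J J' : Ideal A} (x : (A ⧸ J) ⊗[k] (A ⧸ J') →ₐ[k] R) : Pt k A R :=
  toConv ((x.comp Algebra.TensorProduct.includeLeft).comp (Ideal.Quotient.mkₐ k J))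

/-- The right component of a point of the product. -/
noncomputable def sndPt {J J' : Ideal A} (x : (A ⧸ J) ⊗[k] (A ⧸ J') →ₐ[k] R) : Pt k A R :=
  toConv ((x.comp Algebra.TensorProduct.includeRight).comp (Ideal.Quotient.mkₐ k J'))

theorem comp_mulMap {J J' : Ideal A} (x : (A ⧸ J) ⊗[k] (A ⧸ J') →ₐ[k] R) :
    toConv (x.comp (mulMap k J J')) = fstPt x * sndPt x := by
  apply WithConv.ofConv_injective
  apply AlgHom.ext
  intro a
  rw [AlgHom.convMul_apply]
  show x (Algebra.TensorProduct.map _ _ (Coalgebra.comul (R := k) a)) = _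
  generalize Coalgebra.comul (R := k) a = y
  induction y using TensorProduct.induction_on with
  | zero => simp
  | tmul p q =>
    simp only [Algebra.TensorProduct.map_tmul, Algebra.TensorProduct.lift_tmul, fstPt, sndPt,
      ofConv_toConv, AlgHom.comp_apply, Algebra.TensorProduct.includeLeft_apply,
      Algebra.TensorProduct.includeRight_apply, ← map_mul, Algebra.TensorProduct.tmul_mul_tmul,
      mul_one, one_mul]
  | add p q hp hq => simp only [map_add, hp, hq]

theorem le_ker_fstPt {J J' : Ideal A} (x : (A ⧸ J) ⊗[k] (A ⧸ J') →ₐ[k] R) :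
    J ≤ RingHom.ker (fstPt x).ofConv := fun a ha => by
  simp [fstPt, Ideal.Quotient.eq_zero_iff_mem.2 ha]

theorem le_ker_sndPt {J J' : Ideal A} (x : (A ⧸ J) ⊗[k] (A ⧸ J') →ₐ[k] R) :
    J' ≤ RingHom.ker (sndPt x).ofConv := fun a ha => by
  simp [sndPt, Ideal.Quotient.eq_zero_iff_mem.2 ha]

/-- The point of the product with given components. -/
noncomputable def pairPt {J J' : Ideal A} (u p : Pt k A R) (hu : J ≤ RingHom.ker u.ofConv)
    (hp : J' ≤ RingHom.ker p.ofConv) : (A ⧸ J) ⊗[k] (A ⧸ J') →ₐ[k] R :=
  Algebra.TensorProduct.lift (Ideal.Quotient.liftₐ J u.ofConv hu)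
    (Ideal.Quotient.liftₐ J' p.ofConv hp) fun _ _ => .all ..

theorem pairPt_comp_mulMap {J J' : Ideal A} (u p : Pt k A R) (hu : J ≤ RingHom.ker u.ofConv)
    (hp : J' ≤ RingHom.ker p.ofConv) :
    toConv ((pairPt u p hu hp).comp (mulMap k J J')) = u * p := by
  rw [comp_mulMap]
  congr 1 <;>
  · apply WithConv.ofConv_injective
    apply AlgHom.ext
    intro a
    simp [fstPt, sndPt, pairPt]

theorem hom_ext_of_components {J J' : Ideal A} {x y : (A ⧸ J) ⊗[k] (A ⧸ J') →ₐ[k] R}
    (h1 : fstPt x = fstPt y) (h2 : sndPt x = sndPt y) : x = y :=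
  Algebra.TensorProduct.ext
    (Ideal.Quotient.algHom_ext k (WithConv.toConv_injective h1))
    (Ideal.Quotient.algHom_ext k (WithConv.toConv_injective h2))

variable (hneg : (lamNeg : A →ₐ[k] k[T;T⁻¹]) = Dyn.negParam k A lam)

include hneg in
theorem eq_one_of_hasLimOne_neg_hasLim {g : Pt k A R} (h1 : HasLimOne lamNeg g)
    (h2 : HasLim lam g) : g = 1 := by
  apply WithConv.ofConv_injective
  apply AlgHom.ext
  intro a
  rw [AlgHom.convOne_apply]
  conv_lhs => rw [← sum_pr lam a, map_sum]
  rw [Finset.sum_eq_single (0 : ℤ)]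
  · have := h1.2 a
    rwa [pr_neg lam lamNeg hneg, neg_zero] at this
  · intro n _ hn
    rcases lt_or_gt_of_ne hn with h | h
    · exact h2 a n h
    · have := h1.1 a (-n) (by omega)
      rwa [pr_neg lam lamNeg hneg, neg_neg] at this
  · intro h
    rw [pr_apply, Finsupp.notMem_support_iff.1 h, map_zero]

include hneg in
theorem comp_mulMap_injective {x y : (A ⧸ idealU lamNeg) ⊗[k] (A ⧸ idealP lam) →ₐ[k] R}
    (h : x.comp (mulMap k _ _) = y.comp (mulMap k _ _)) : x = y := by
  have h' := congrArg toConv h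
  rw [comp_mulMap, comp_mulMap] at h'
  have e1 : (fstPt y)⁻¹ * fstPt x = sndPt y * (sndPt x)⁻¹ := by
    rw [eq_mul_inv_iff_mul_eq, mul_assoc, h', inv_mul_cancel_left]
  have m1 : HasLimOne lamNeg ((fstPt y)⁻¹ * fstPt x) :=
    (mem_limOneSubgroup lamNeg _).1 (mul_mem
      (inv_mem ((mem_limOneSubgroup lamNeg _).2 ((le_ker_idealU_iff lamNeg _).1 (le_ker_fstPt y))))
      ((mem_limOneSubgroup lamNeg _).2 ((le_ker_idealU_iff lamNeg _).1 (le_ker_fstPt x))))
  have m2 : HasLim lam ((fstPt y)⁻¹ * fstPt x) := by
    rw [e1]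
    exact (mem_limSubgroup lam _).1 (mul_mem
      ((mem_limSubgroup lam _).2 ((le_ker_idealP_iff lam _).1 (le_ker_sndPt y)))
      (inv_mem ((mem_limSubgroup lam _).2 ((le_ker_idealP_iff lam _).1 (le_ker_sndPt x)))))
  have h3 := eq_one_of_hasLimOne_neg_hasLim lam lamNeg hneg m1 m2
  refine hom_ext_of_components (inv_mul_eq_one.1 h3).symm ?_
  rw [e1, mul_inv_eq_one] at h3
  exact h3.symm

variable (R) in
/-- The sum of the negative coefficients. -/
noncomputable def negSum : R[T;T⁻¹] →+ R where
  toFun p := p.coeff.sum fun n x => if n < 0 then x else 0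
  map_zero' := by simp
  map_add' p q := by
    rw [AddMonoidAlgebra.coeff_add, Finsupp.sum_add_index' (fun _ => by simp)
      (fun _ _ _ => by split_ifs <;> simp)]

theorem negSum_single (n : ℤ) (r : R) :
    negSum R (AddMonoidAlgebra.single n r) = if n < 0 then r else 0 := by
  show (AddMonoidAlgebra.single n r).coeff.sum (fun n x => if n < 0 then x else 0) = _
  rw [AddMonoidAlgebra.coeff_single]
  exact Finsupp.sum_single_index (by simp)

theorem negSum_cst_mul (c : R) (e : R[T;T⁻¹]) : negSum R (cst k R c * e) = c * negSum R e := by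
  induction e using AddMonoidAlgebra.induction_linear with
  | zero => simp
  | add p q hp hq => rw [mul_add, map_add, map_add, hp, hq, mul_add]
  | single n r =>
    rw [cst_apply, AddMonoidAlgebra.single_mul_single, zero_add, negSum_single, negSum_single]
    split_ifs <;> simp

theorem negSum_cst (c : R) : negSum R (cst k R c) = 0 := by
  rw [cst_apply, negSum_single, if_neg (lt_irrefl 0)]

theorem negSum_mem {I : Ideal R} {e : R[T;T⁻¹]} (he : ∀ n, e.coeff n ∈ I) : negSum R e ∈ I :=
  Ideal.sum_mem _ fun n _ => by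
    dsimp only
    split_ifs
    · exact he n
    · exact I.zero_mem

include hneg in
theorem exists_split_infinitesimal {I : Ideal R} (hI : I ^ 2 = ⊥) (w : Pt k A R)
    (hw : mapPt (Ideal.Quotient.mkₐ k I) w = 1) :
    ∃ u p : Pt k A R, HasLimOne lamNeg u ∧ HasLim lam p ∧ u * p = w ∧
      mapPt (Ideal.Quotient.mkₐ k I) u = 1 ∧ mapPt (Ideal.Quotient.mkₐ k I) p = 1 := by
  let ε : A → R := fun a => algebraMap k R (Coalgebra.counit a)
  let D : A →+ R := (negSum R).comp (orb lam w).ofConv.toAddMonoidHom
  have hd : ∀ a, w.ofConv a - ε a ∈ I := fun a => by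
    rw [← Ideal.Quotient.eq_zero_iff_mem, map_sub, sub_eq_zero]
    have := congrArg (fun g : Pt k A (R ⧸ I) => g.ofConv a) hw
    simp only [mapPt_apply, AlgHom.convOne_apply] at this
    exact this
  have he : ∀ a n, ((orb lam w).ofConv a - cst k R (ε a)).coeff n ∈ I := fun a n => by
    rw [AddMonoidAlgebra.coeff_sub, Finsupp.sub_apply, coeff_orb, cst_apply, single_eq_C, C_apply]
    have h := hd (pr lam n a)
    simp only [ε] at h
    rw [counit_pr] at h
    simp only [ε]
    split_ifs at h ⊢ <;> simpa using h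
  have hDI : ∀ a, D a ∈ I := fun a => by
    have h := negSum_mem (he a)
    rw [map_sub, negSum_cst, sub_zero] at h
    exact h
  have hεmul : ∀ a b, ε (a * b) = ε a * ε b := fun a b => by
    simp [ε, Bialgebra.counit_mul]
  have hε1 : ε 1 = 1 := by simp [ε, Bialgebra.counit_one]
  have hεc : ∀ c, ε (algebraMap k A c) = algebraMap k R c := fun c => by
    simp [ε, Bialgebra.counit_algebraMap]
  have hDmul : ∀ a b, D (a * b) = ε a * D b + ε b * D a := by
    intro a b
    have h : (orb lam w).ofConv a * (orb lam w).ofConv b =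
        cst k R (ε a) * (orb lam w).ofConv b + cst k R (ε b) * (orb lam w).ofConv a -
          cst k R (ε a * ε b) +
          ((orb lam w).ofConv a - cst k R (ε a)) * ((orb lam w).ofConv b - cst k R (ε b)) := by
      rw [map_mul (cst k R)]
      ring
    show negSum R ((orb lam w).ofConv (a * b)) = _
    rw [map_mul, h, mul_eq_zero_of_coeff_mem hI (he a) (he b), add_zero, map_sub, map_add,
      negSum_cst, sub_zero, negSum_cst_mul, negSum_cst_mul]
    rfl
  have hDc : ∀ c, D (algebraMap k A c) = 0 := fun c => by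
    show negSum R _ = 0
    show negSum R ((orb lam w).ofConv (algebraMap k A c)) = 0
    rw [AlgHom.commutes, ← AlgHom.commutes (cst k R), negSum_cst]
  have hDpr : ∀ n a, D (pr lam n a) = if n < 0 then w.ofConv (pr lam n a) else 0 := fun n a => by
    show negSum R ((orb lam w).ofConv (pr lam n a)) = _
    have : (orb lam w).ofConv (pr lam n a) = AddMonoidAlgebra.single n (w.ofConv (pr lam n a)) := by
      ext m
      rw [coeff_orb, pr_pr]
      by_cases h : m = n
      · subst h; simp
      · simp [h, Finsupp.single_eq_of_ne h]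
    rw [this, negSum_single]
  let u : A →ₐ[k] R :=
    { toFun := fun a => ε a + D a
      map_one' := by rw [hε1, ← map_one (algebraMap k A), hDc, add_zero]
      map_mul' := fun a b => by
        rw [hεmul, hDmul]
        linear_combination -mul_eq_zero_of_sq_eq_bot hI (hDI a) (hDI b)
      map_zero' := by simp [ε]
      map_add' := fun a b => by simp only [ε, map_add]; ring
      commutes' := fun c => by rw [hεc, hDc, add_zero] }
  let p : A →ₐ[k] R :=
    { toFun := fun a => w.ofConv a - D a
      map_one' := by rw [map_one, ← map_one (algebraMap k A), hDc, sub_zero]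
      map_mul' := fun a b => by
        rw [map_mul, hDmul]
        linear_combination -(mul_eq_zero_of_sq_eq_bot hI (hDI a) (hDI b)) +
          mul_eq_zero_of_sq_eq_bot hI (hd a) (hDI b) + mul_eq_zero_of_sq_eq_bot hI (hDI a) (hd b)
      map_zero' := by simp
      map_add' := fun a b => by simp only [map_add]; ring
      commutes' := fun c => by rw [AlgHom.commutes, hDc, sub_zero] }
  have hu : HasLimOne lamNeg (toConv u) := by
    refine ⟨fun a n hn => ?_, fun a => ?_⟩
    · show ε _ + D _ = 0
      rw [pr_neg lam lamNeg hneg, hDpr, if_neg (by omega)]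
      simp only [ε, counit_pr, if_neg (show -n ≠ 0 by omega), map_zero, add_zero]
    · show ε _ + D _ = _
      rw [pr_neg lam lamNeg hneg, neg_zero, hDpr, if_neg (lt_irrefl 0), add_zero]
      simp [ε, counit_pr]
  have hp : HasLim lam (toConv p) := fun a n hn => by
    show w.ofConv _ - D _ = 0
    rw [hDpr, if_pos hn, sub_self]
  refine ⟨toConv u, toConv p, hu, hp, ?_, ?_, ?_⟩
  · apply WithConv.ofConv_injective
    apply AlgHom.ext
    intro a
    rw [AlgHom.convMul_apply]
    have key : ∀ y : A ⊗[k] A,
        Algebra.TensorProduct.lift (toConv u).ofConv (toConv p).ofConv (fun _ _ => .all ..) y =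
          D (TensorProduct.rid k A ((Bialgebra.counitAlgHom k A).toLinearMap.lTensor A y)) +
            (w.ofConv (TensorProduct.lid k A
              ((Bialgebra.counitAlgHom k A).toLinearMap.rTensor A y)) -
            D (TensorProduct.lid k A
              ((Bialgebra.counitAlgHom k A).toLinearMap.rTensor A y))) := by
      intro y
      induction y using TensorProduct.induction_on with
      | zero => simp
      | tmul b c =>
        have hDsmul : ∀ (r : k) (x : A), D (r • x) = algebraMap k R r * D x := fun r x => by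
          rw [Algebra.smul_def, hDmul, hDc, mul_zero, add_zero, hεc]
        simp only [Algebra.TensorProduct.lift_tmul, LinearMap.lTensor_tmul,
          LinearMap.rTensor_tmul, TensorProduct.rid_tmul, TensorProduct.lid_tmul, hDsmul,
          map_smul, AlgHom.toLinearMap_apply, Bialgebra.counitAlgHom_apply]
        show (ε b + D b) * (w.ofConv c - D c) = _
        rw [Algebra.smul_def]
        simp only [ε]
        linear_combination mul_eq_zero_of_sq_eq_bot hI (hDI b) (hd c) -
          mul_eq_zero_of_sq_eq_bot hI (hDI b) (hDI c)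
      | add p q hp hq => simp only [map_add, hp, hq]; abel
    rw [key]
    have h1 := Coalgebra.lTensor_counit_comul (R := k) a
    have h2 := Coalgebra.rTensor_counit_comul (R := k) a
    simp only [Bialgebra.toLinearMap_counitAlgHom, h1, h2, TensorProduct.rid_tmul,
      TensorProduct.lid_tmul, one_smul]
    ring
  · apply WithConv.ofConv_injective
    apply AlgHom.ext
    intro a
    rw [mapPt_apply, AlgHom.convOne_apply]
    show Ideal.Quotient.mk I (ε a + D a) = _
    rw [map_add, Ideal.Quotient.eq_zero_iff_mem.2 (hDI a), add_zero]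
    rfl
  · apply WithConv.ofConv_injective
    apply AlgHom.ext
    intro a
    rw [mapPt_apply, AlgHom.convOne_apply]
    show Ideal.Quotient.mk I (w.ofConv a - D a) = _
    rw [map_sub, Ideal.Quotient.eq_zero_iff_mem.2 (hDI a), sub_zero]
    exact Ideal.Quotient.eq.2 (hd a)

omit [HopfAlgebra k A] in
/-- Formal etaleness read on points over the base. -/
theorem formallyEtale_of_points [Algebra k A] {C : Type u} [CommRing C] [Algebra k C]
    (θ : A →ₐ[k] C)
    (hinj : ∀ (B : Type u) [CommRing B] [Algebra k B] (x y : C →ₐ[k] B),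
      x.comp θ = y.comp θ → x = y)
    (hlift : ∀ (B : Type u) [CommRing B] [Algebra k B] (I : Ideal B), I ^ 2 = ⊥ →
      ∀ (g : A →ₐ[k] B) (x₀ : C →ₐ[k] B ⧸ I), (Ideal.Quotient.mkₐ k I).comp g = x₀.comp θ →
        ∃ x : C →ₐ[k] B, x.comp θ = g) :
    θ.toRingHom.FormallyEtale := by
  algebraize [θ.toRingHom]
  refine Algebra.FormallyEtale.iff_comp_bijective.2 fun B _ _ I hI => ?_
  letI : Algebra k B := ((algebraMap A B).comp (algebraMap k A)).toAlgebra
  have : IsScalarTower k A B := IsScalarTower.of_algebraMap_eq' rfl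
  have : IsScalarTower k A C :=
    IsScalarTower.of_algebraMap_eq fun c => (θ.commutes c).symm
  refine ⟨fun x y _ => ?_, fun f => ?_⟩
  · exact AlgHom.restrictScalars_injective k (hinj B _ _ (AlgHom.ext fun a =>
      (x.commutes a).trans (y.commutes a).symm))
  · obtain ⟨F, hF⟩ := hlift B I hI (IsScalarTower.toAlgHom k A B) (f.restrictScalars k)
      (AlgHom.ext fun a => (f.commutes a).symm)
    refine ⟨{ F with commutes' := fun a => AlgHom.congr_fun hF a }, ?_⟩
    apply AlgHom.restrictScalars_injective k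
    show (Ideal.Quotient.mkₐ k I).comp F = f.restrictScalars k
    refine hinj _ _ _ ?_
    rw [AlgHom.comp_assoc, hF]
    exact AlgHom.ext fun a => (f.commutes a).symm

include hneg in
theorem exists_lift_mulMap [Algebra.FormallySmooth k A] (B : Type u) [CommRing B] [Algebra k B]
    (I : Ideal B) (hI : I ^ 2 = ⊥) (g₀ : A →ₐ[k] B)
    (xb : (A ⧸ idealU lamNeg) ⊗[k] (A ⧸ idealP lam) →ₐ[k] B ⧸ I)
    (hcomp : (Ideal.Quotient.mkₐ k I).comp g₀ = xb.comp (mulMap k _ _)) :
    ∃ x : (A ⧸ idealU lamNeg) ⊗[k] (A ⧸ idealP lam) →ₐ[k] B, x.comp (mulMap k (idealU lamNeg) (idealP lam)) = g₀ := by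
  have := formallySmooth_quotient_idealU lamNeg
  have := formallySmooth_quotient_idealP lam
  have : Algebra.FormallySmooth k ((A ⧸ idealU lamNeg) ⊗[k] (A ⧸ idealP lam)) :=
    Algebra.FormallySmooth.comp k (A ⧸ idealU lamNeg) _
  let g : Pt k A B := toConv g₀
  obtain ⟨x, hx⟩ := Algebra.FormallySmooth.comp_surjective k _ I hI xb
  have hred : mapPt (Ideal.Quotient.mkₐ k I) (fstPt x * sndPt x) =
      mapPt (Ideal.Quotient.mkₐ k I) g := by
    rw [← comp_mulMap]
    apply WithConv.ofConv_injective
    show ((Ideal.Quotient.mkₐ k I).comp (x.comp (mulMap k _ _))) = _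
    rw [← AlgHom.comp_assoc, show (Ideal.Quotient.mkₐ k I).comp x = xb from hx]
    exact hcomp.symm
  let w : Pt k A B := (fstPt x)⁻¹ * g * (sndPt x)⁻¹
  have hw : mapPt (Ideal.Quotient.mkₐ k I) w = 1 := by
    rw [map_mul, map_mul, map_inv, map_inv, ← hred, map_mul]
    group
  obtain ⟨v, q, hv, hq, hvq, hv1, hq1⟩ :=
    exists_split_infinitesimal lam lamNeg hneg hI w hw
  have hu : idealU lamNeg ≤ RingHom.ker (fstPt x * v).ofConv :=
    (le_ker_idealU_iff lamNeg _).2 ((mem_limOneSubgroup lamNeg _).1 (mul_mem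
      ((mem_limOneSubgroup lamNeg _).2 ((le_ker_idealU_iff lamNeg _).1 (le_ker_fstPt x)))
      ((mem_limOneSubgroup lamNeg _).2 hv)))
  have hp : idealP lam ≤ RingHom.ker (q * sndPt x).ofConv :=
    (le_ker_idealP_iff lam _).2 ((mem_limSubgroup lam _).1 (mul_mem
      ((mem_limSubgroup lam _).2 hq)
      ((mem_limSubgroup lam _).2 ((le_ker_idealP_iff lam _).1 (le_ker_sndPt x)))))
  refine ⟨pairPt (fstPt x * v) (q * sndPt x) hu hp, WithConv.toConv_injective ?_⟩
  rw [pairPt_comp_mulMap, mul_assoc, ← mul_assoc v, hvq]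
  show fstPt x * ((fstPt x)⁻¹ * g * (sndPt x)⁻¹ * sndPt x) = g
  group

include hneg in
theorem formallyEtale_mulMap [Algebra.FormallySmooth k A] :
    (mulMap k (idealU lamNeg) (idealP lam)).toRingHom.FormallyEtale :=
  formallyEtale_of_points _ (fun _ _ _ _ _ h => comp_mulMap_injective lam lamNeg hneg h)
    (exists_lift_mulMap lam lamNeg hneg)

omit [HopfAlgebra k A] in
theorem etale_of_formallyEtale [Algebra k A] [Algebra.FiniteType k A] {C : Type u} [CommRing C]
    [Algebra k C] [Algebra.FinitePresentation k C] (θ : A →ₐ[k] C)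
    (he : θ.toRingHom.FormallyEtale) : θ.toRingHom.Etale := by
  algebraize [θ.toRingHom]
  have : IsScalarTower k A C :=
    IsScalarTower.of_algebraMap_eq fun c => (θ.commutes c).symm
  exact ⟨he, Algebra.FinitePresentation.of_restrict_scalars_finitePresentation k A _⟩

include hneg in
theorem mulMap_epi :
    Epi (CommRingCat.ofHom (mulMap k (idealU lamNeg) (idealP lam)).toRingHom) := by
  refine ⟨fun {Z} g h e => ?_⟩
  have e' : ∀ a, g.hom (mulMap k (idealU lamNeg) (idealP lam) a) =
      h.hom (mulMap k (idealU lamNeg) (idealP lam) a) := fun a =>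
    congrArg (fun t : CommRingCat.of A ⟶ Z => t.hom a) e
  letI : Algebra k Z := (g.hom.comp (algebraMap k _)).toAlgebra
  let g' : (A ⧸ idealU lamNeg) ⊗[k] (A ⧸ idealP lam) →ₐ[k] Z :=
    { g.hom with commutes' := fun c => rfl }
  let h' : (A ⧸ idealU lamNeg) ⊗[k] (A ⧸ idealP lam) →ₐ[k] Z :=
    { h.hom with
      commutes' := fun c => by
        show h.hom _ = g.hom _
        rw [← (mulMap k (idealU lamNeg) (idealP lam)).commutes c]
        exact (e' _).symm }
  have := comp_mulMap_injective lam lamNeg hneg (x := g') (y := h') (AlgHom.ext e')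
  exact CommRingCat.hom_ext (RingHom.ext fun x => AlgHom.congr_fun this x)

include hneg in
theorem isOpenImmersion_mulMap_of_formallyEtale [Algebra.FinitePresentation k A]
    (he : (mulMap k (idealU lamNeg) (idealP lam)).toRingHom.FormallyEtale) :
    IsOpenImmersion
      (Spec.map (CommRingCat.ofHom (mulMap k (idealU lamNeg) (idealP lam)).toRingHom)) := by
  have := mulMap_epi lam lamNeg hneg
  have : Mono (Spec.map (CommRingCat.ofHom (mulMap k (idealU lamNeg) (idealP lam)).toRingHom)) :=
    inferInstanceAs <| Mono (Scheme.Spec.map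
      (CommRingCat.ofHom (mulMap k (idealU lamNeg) (idealP lam)).toRingHom).op)
  have := finitePresentation_quotient_idealU lamNeg
  have := finitePresentation_quotient_idealP lam
  have hfp : Algebra.FinitePresentation k ((A ⧸ idealU lamNeg) ⊗[k] (A ⧸ idealP lam)) :=
    Algebra.FinitePresentation.trans k (A ⧸ idealU lamNeg) _
  have het : (mulMap k (idealU lamNeg) (idealP lam)).toRingHom.Etale :=
    etale_of_formallyEtale (mulMap k (idealU lamNeg) (idealP lam)) he
  have : AlgebraicGeometry.Etale
      (Spec.map (CommRingCat.ofHom (mulMap k (idealU lamNeg) (idealP lam)).toRingHom)) :=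
    (HasRingHomProperty.Spec_iff (P := @AlgebraicGeometry.Etale)).2 het
  exact IsOpenImmersion.of_flat_of_mono _

include hneg in
theorem isOpenImmersion_mulMap [Algebra.Smooth k A] :
    IsOpenImmersion
      (Spec.map (CommRingCat.ofHom (mulMap k (idealU lamNeg) (idealP lam)).toRingHom)) :=
  isOpenImmersion_mulMap_of_formallyEtale lam lamNeg hneg (formallyEtale_mulMap lam lamNeg hneg)

end Groth.Agent.DynLib
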