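import Groth.Agent.DynLib.Levi
import Mathlib.RingTheory.Smooth.Basic
import Mathlib.RingTheory.FinitePresentation

/-!
Finiteness and smoothness of the subgroups cut out by a one-parameter subgroup.
-/

universe u

open WithConv LaurentPolynomial
open scoped TensorProduct

namespace Groth.Agent.DynLib

attribute [local instance] ptGroup
attribute [-simp] LaurentPolynomial.single_eq_C_mul_T

variable {k : Type u} [CommRing k] {A : Type u} [CommRing A] [HopfAlgebra k A]
  {R S : Type u} [CommRing R] [Algebra k R] [CommRing S] [Algebra k S]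
  (lam : A →ₐc[k] k[T;T⁻¹])

theorem pr_finite (a : A) : {n : ℤ | pr lam n a ≠ 0}.Finite :=
  (coact lam a).coeff.support.finite_toSet.subset fun n hn => Finsupp.mem_support_iff.2 hn

theorem hasLim_of_adjoin (g : Pt k A R) {s : Set A} (hs : Algebra.adjoin k s = ⊤)
    (h : ∀ x ∈ s, ∀ n < (0 : ℤ), g.ofConv (pr lam n x) = 0) : HasLim lam g := by
  have key : Algebra.adjoin k s ≤ (polyL k R).range.comap (orb lam g).ofConv := by
    refine Algebra.adjoin_le fun x hx => ?_
    refine ⟨trunc ((orb lam g).ofConv x), ?_⟩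
    exact toLaurent_trunc _ fun n hn => by rw [coeff_orb]; exact h x hx n hn
  intro a n hn
  obtain ⟨p, hp⟩ := key (hs ▸ Algebra.mem_top : a ∈ Algebra.adjoin k s)
  rw [← coeff_orb]
  rw [show (orb lam g).ofConv a = _ from hp.symm]
  exact coeff_toLaurent_neg p n hn

theorem idealP_fg [Algebra.FiniteType k A] : (idealP lam).FG := by
  obtain ⟨s, hs⟩ := (Algebra.FiniteType.out : (⊤ : Subalgebra k A).FG)
  let T : Set A := ⋃ x ∈ (s : Set A), (fun n => pr lam n x) '' {n : ℤ | n < 0 ∧ pr lam n x ≠ 0}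
  have hT : T.Finite := s.finite_toSet.biUnion fun x _ =>
    ((pr_finite lam x).subset fun n hn => hn.2).image _
  refine Submodule.fg_def.2 ⟨T, hT, le_antisymm ?_ ?_⟩
  · refine Submodule.span_le.2 fun y hy => ?_
    simp only [T, Set.mem_iUnion, Set.mem_image] at hy
    obtain ⟨x, -, n, hn, rfl⟩ := hy
    exact Ideal.subset_span ⟨n, hn.1, x, rfl⟩
  · let q : A →ₐ[k] A ⧸ Ideal.span T := Ideal.Quotient.mkₐ k (Ideal.span T)
    have hq : HasLim lam (toConv q) := hasLim_of_adjoin lam _ hs fun x hx n hn => by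
      by_cases h0 : pr lam n x = 0
      · simp [h0]
      · exact Ideal.Quotient.eq_zero_iff_mem.2 (Ideal.subset_span
          (Set.mem_iUnion₂.2 ⟨x, hx, n, ⟨hn, h0⟩, rfl⟩))
    intro a ha
    exact Ideal.Quotient.eq_zero_iff_mem.1 ((le_ker_idealP_iff lam (toConv q)).2 hq ha)

theorem hasLimOne_of_adjoin (g : Pt k A R) (hg : HasLim lam g) {s : Set A}
    (hs : Algebra.adjoin k s = ⊤)
    (h : ∀ x ∈ s, g.ofConv (pr lam 0 x) = algebraMap k R (Coalgebra.counit x)) :
    HasLimOne lam g := by
  refine ⟨hg, ?_⟩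
  let g' : limSubgroup lam R := ⟨g, (mem_limSubgroup lam g).2 hg⟩
  have key : (lim lam g').ofConv = (Algebra.ofId k R).comp (Bialgebra.counitAlgHom k A) :=
    AlgHom.ext_of_adjoin_eq_top hs fun x hx => (lim_apply lam g' x).trans (h x hx)
  intro a
  rw [← lim_apply lam g' a, key]
  rfl

theorem idealU_fg [Algebra.FiniteType k A] : (idealU lam).FG := by
  obtain ⟨s, hs⟩ := (Algebra.FiniteType.out : (⊤ : Subalgebra k A).FG)
  let f : A → A := fun a => pr lam 0 a - algebraMap k A (Coalgebra.counit a)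
  have : idealU lam = idealP lam ⊔ Ideal.span (f '' (s : Set A)) := by
    refine le_antisymm ?_ (sup_le_sup le_rfl (Ideal.span_mono (Set.image_subset_range _ _)))
    let I := idealP lam ⊔ Ideal.span (f '' (s : Set A))
    let q : A →ₐ[k] A ⧸ I := Ideal.Quotient.mkₐ k I
    have hq : HasLim lam (toConv q) := (le_ker_idealP_iff lam (toConv q)).1 fun a ha =>
      Ideal.Quotient.eq_zero_iff_mem.2 (Ideal.mem_sup_left ha)
    have hq' : HasLimOne lam (toConv q) := hasLimOne_of_adjoin lam _ hq hs fun x hx => by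
      rw [ofConv_toConv, ← sub_eq_zero, ← AlgHom.commutes q, ← map_sub]
      exact Ideal.Quotient.eq_zero_iff_mem.2
        (Ideal.mem_sup_right (Ideal.subset_span (Set.mem_image_of_mem f hx)))
    intro a ha
    exact Ideal.Quotient.eq_zero_iff_mem.1 ((le_ker_idealU_iff lam (toConv q)).2 hq' ha)
  rw [this]
  exact Submodule.FG.sup (idealP_fg lam) (Submodule.fg_def.2 ⟨_, s.finite_toSet.image f, rfl⟩)

theorem finitePresentation_quotient_idealP [Algebra.FinitePresentation k A] :
    Algebra.FinitePresentation k (A ⧸ idealP lam) :=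
  Algebra.FinitePresentation.quotient (idealP_fg lam)

theorem finitePresentation_quotient_idealU [Algebra.FinitePresentation k A] :
    Algebra.FinitePresentation k (A ⧸ idealU lam) :=
  Algebra.FinitePresentation.quotient (idealU_fg lam)

theorem mul_eq_zero_of_sq_eq_bot {I : Ideal R} (hI : I ^ 2 = ⊥) {x y : R} (hx : x ∈ I)
    (hy : y ∈ I) : x * y = 0 := by
  rw [← Ideal.mem_bot, ← hI, pow_two]
  exact Ideal.mul_mem_mul hx hy

theorem mul_eq_zero_of_coeff_mem {I : Ideal R} (hI : I ^ 2 = ⊥) {e e' : R[T;T⁻¹]}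
    (he : ∀ n, e.coeff n ∈ I) (he' : ∀ n, e'.coeff n ∈ I) : e * e' = 0 := by
  rw [← AddMonoidAlgebra.sum_coeff_single e, ← AddMonoidAlgebra.sum_coeff_single e']
  simp only [Finsupp.sum, Finset.sum_mul, Finset.mul_sum, AddMonoidAlgebra.single_mul_single]
  refine Finset.sum_eq_zero fun i _ => Finset.sum_eq_zero fun j _ => ?_
  rw [mul_eq_zero_of_sq_eq_bot hI (he _) (he' _), AddMonoidAlgebra.single_zero]

theorem coeff_mul_of_almost {I : Ideal R} (hI : I ^ 2 = ⊥) {p q : R[T;T⁻¹]} (m l : ℤ)
    (hp : ∀ n ≠ m, p.coeff n ∈ I) (hq : ∀ n ≠ l, q.coeff n ∈ I) :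
    (p * q).coeff (m + l) = p.coeff m * q.coeff l := by
  classical
  set e := p - AddMonoidAlgebra.single m (p.coeff m) with he
  set e' := q - AddMonoidAlgebra.single l (q.coeff l) with he'
  have e1 : ∀ n, e.coeff n ∈ I := fun n => by
    by_cases h : n = m
    · subst h; simp [he]
    · simpa [he, Finsupp.single_eq_of_ne h] using hp n h
  have e2 : ∀ n, e'.coeff n ∈ I := fun n => by
    by_cases h : n = l
    · subst h; simp [he']
    · simpa [he', Finsupp.single_eq_of_ne h] using hq n h
  have : p * q = AddMonoidAlgebra.single (m + l) (p.coeff m * q.coeff l) +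
      AddMonoidAlgebra.single m (p.coeff m) * e' + e * AddMonoidAlgebra.single l (q.coeff l) +
      e * e' := by
    rw [← AddMonoidAlgebra.single_mul_single, he, he']
    ring
  rw [this, mul_eq_zero_of_coeff_mem hI e1 e2]
  have z1 : e'.coeff l = 0 := by simp [he']
  have z2 : e.coeff m = 0 := by simp [he]
  simp [AddMonoidAlgebra.coeff_single_mul_eq_mul_coeff (r := p.coeff m) (m := m) (x := e')
      (m₁ := m + l) l (fun _ _ => add_right_inj m),
    AddMonoidAlgebra.coeff_mul_single_eq_coeff_mul (r := q.coeff l) (m := l) (x := e)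
      (m₁ := m + l) m (fun _ _ => add_left_inj l), z1, z2]

variable (R) in
/-- Coefficient extraction on the diagonal. -/
noncomputable def diagCoeff : (R[T;T⁻¹])[T;T⁻¹] →+ R where
  toFun p := p.coeff.sum fun n x => x.coeff n
  map_zero' := by simp
  map_add' p q := by
    rw [AddMonoidAlgebra.coeff_add, Finsupp.sum_add_index' (fun _ => rfl)
      (fun _ _ _ => by simp)]

theorem diagCoeff_single (n : ℤ) (p : R[T;T⁻¹]) :
    diagCoeff R (AddMonoidAlgebra.single n p) = p.coeff n := by
  show (AddMonoidAlgebra.single n p).coeff.sum (fun n x => x.coeff n) = _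
  rw [AddMonoidAlgebra.coeff_single]
  exact Finsupp.sum_single_index rfl

/-- Given any lift of a polynomial orbit, extract an honest point with a limit. -/
theorem exists_hasLim_lift {I : Ideal R} (hI : I ^ 2 = ⊥) (L : A →ₐ[k] R[T;T⁻¹])
    (hL : ∀ a, ∀ n < (0 : ℤ), (L a).coeff n = 0) (g₀ : Pt k A (R ⧸ I))
    (hLg : ∀ a n, Ideal.Quotient.mk I ((L a).coeff n) = g₀.ofConv (pr lam n a)) :
    ∃ g : Pt k A R, HasLim lam g ∧ mapPt (Ideal.Quotient.mkₐ k I) g = g₀ := by
  let G : A →+ R := (diagCoeff R).comp ((mapL L).comp (coact lam)).toAddMonoidHom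
  have hG : ∀ n a, G (pr lam n a) = (L (pr lam n a)).coeff n := by
    intro n a
    show diagCoeff R (mapL L (coact lam (pr lam n a))) = _
    rw [coact_pr, AddMonoidAlgebra.mapAlgHom_single, diagCoeff_single]
  have halm : ∀ a m, ∀ n ≠ m, (L (pr lam m a)).coeff n ∈ I := by
    intro a m n hn
    rw [← Ideal.Quotient.eq_zero_iff_mem, hLg, pr_pr, if_neg hn, map_zero]
  have hmul : ∀ a b, G (a * b) = G a * G b := by
    intro a b
    conv_lhs => rw [← sum_pr lam a, ← sum_pr lam b, Finset.sum_mul_sum]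
    conv_rhs => rw [← sum_pr lam a, ← sum_pr lam b, map_sum, map_sum, Finset.sum_mul_sum]
    rw [map_sum]
    refine Finset.sum_congr rfl fun m _ => ?_
    rw [map_sum]
    refine Finset.sum_congr rfl fun l _ => ?_
    rw [hG, hG]
    show diagCoeff R (mapL L (coact lam (pr lam m a * pr lam l b))) = _
    rw [map_mul, coact_pr, coact_pr, AddMonoidAlgebra.single_mul_single,
      AddMonoidAlgebra.mapAlgHom_single, diagCoeff_single, map_mul]
    exact coeff_mul_of_almost hI m l (halm a m) (halm b l)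
  have hone : G 1 = 1 := by
    show diagCoeff R (mapL L (coact lam 1)) = _
    rw [map_one, map_one, show (1 : (R[T;T⁻¹])[T;T⁻¹]) = AddMonoidAlgebra.single 0 1 from rfl,
      diagCoeff_single]
    simp
  have halg : ∀ c : k, G (algebraMap k A c) = algebraMap k R c := by
    intro c
    show diagCoeff R (((mapL L).comp (coact lam)) (algebraMap k A c)) = _
    rw [AlgHom.commutes, LaurentPolynomial.algebraMap_apply, ← single_eq_C, diagCoeff_single,
      LaurentPolynomial.algebraMap_apply, C_apply, if_pos rfl]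
  let g : A →ₐ[k] R :=
    { toFun := G, map_one' := hone, map_mul' := hmul, map_zero' := map_zero G,
      map_add' := map_add G, commutes' := halg }
  refine ⟨toConv g, fun a n hn => (hG n a).trans (hL _ n hn), ?_⟩
  apply WithConv.ofConv_injective
  apply AlgHom.ext
  intro a
  show Ideal.Quotient.mk I (G a) = _
  conv_lhs => rw [← sum_pr lam a, map_sum, map_sum]
  conv_rhs => rw [← sum_pr lam a, map_sum]
  refine Finset.sum_congr rfl fun n _ => ?_
  rw [hG, hLg, pr_pr, if_pos rfl]

/-- The point with values in the quotient. -/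
noncomputable abbrev quotPt (J : Ideal A) : Pt k A (A ⧸ J) := toConv (Ideal.Quotient.mkₐ k J)

theorem hasLim_quotPt : HasLim lam (quotPt (idealP lam) : Pt k A _) :=
  (le_ker_idealP_iff lam _).1 fun _ ha => Ideal.Quotient.eq_zero_iff_mem.2 ha

theorem hasLimOne_quotPt : HasLimOne lam (quotPt (idealU lam) : Pt k A _) :=
  (le_ker_idealU_iff lam _).1 fun _ ha => Ideal.Quotient.eq_zero_iff_mem.2 ha

theorem hasLim_mapPt {g : Pt k A R} (hg : HasLim lam g) (f : R →ₐ[k] S) :
    HasLim lam (mapPt f g) := fun a n hn => by rw [mapPt_apply, hg a n hn, map_zero]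

theorem hasLimOne_mapPt {g : Pt k A R} (hg : HasLimOne lam g) (f : R →ₐ[k] S) :
    HasLimOne lam (mapPt f g) :=
  ⟨hasLim_mapPt lam hg.1 f, fun a => by rw [mapPt_apply, hg.2 a, AlgHom.commutes]⟩

theorem formallySmooth_quotient_idealP [Algebra.FormallySmooth k A] :
    Algebra.FormallySmooth k (A ⧸ idealP lam) := by
  refine Algebra.FormallySmooth.of_comp_surjective fun B _ _ I hI f => ?_
  have hlim := hasLim_mapPt lam (hasLim_quotPt lam) f
  let red : Polynomial B →ₐ[k] Polynomial (B ⧸ I) :=
    Polynomial.mapAlgHom (Ideal.Quotient.mkₐ k I)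
  have hsurj : Function.Surjective red :=
    Polynomial.map_surjective (Ideal.Quotient.mk I) Ideal.Quotient.mk_surjective
  have hnil : IsNilpotent (RingHom.ker (red : Polynomial B →+* Polynomial (B ⧸ I))) := by
    refine ⟨2, ?_⟩
    have : RingHom.ker (red : Polynomial B →+* Polynomial (B ⧸ I)) = I.map Polynomial.C := by
      rw [show (red : Polynomial B →+* Polynomial (B ⧸ I)) =
        Polynomial.mapRingHom (Ideal.Quotient.mk I) from rfl, Polynomial.ker_mapRingHom,
        Ideal.mk_ker]
    rw [this, ← Ideal.map_pow, hI, Ideal.map_bot, Ideal.zero_eq_bot]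
  let h : A →ₐ[k] Polynomial B :=
    Algebra.FormallySmooth.liftOfSurjective (limPoly lam hlim).ofConv red hsurj hnil
  have hh : ∀ a (n : ℕ), Ideal.Quotient.mk I ((h a).coeff n) =
      f (Ideal.Quotient.mkₐ k (idealP lam) (pr lam n a)) := by
    intro a n
    have h1 : (red (h a)).coeff n = ((limPoly lam hlim).ofConv a).coeff n :=
      congrArg (fun p : Polynomial (B ⧸ I) => p.coeff n)
        (Algebra.FormallySmooth.liftOfSurjective_apply _ red hsurj hnil a)
    rw [coeff_limPoly] at h1
    rw [← Polynomial.coeff_map]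
    exact h1
  obtain ⟨g, hg, hgI⟩ := exists_hasLim_lift lam hI ((polyL k B).comp h)
    (fun a n hn => coeff_toLaurent_neg (h a) n hn) (mapPt f (quotPt (idealP lam))) (by
      intro a n
      by_cases hn : n < 0
      · exact ((congrArg (Ideal.Quotient.mk I) (coeff_toLaurent_neg (h a) n hn)).trans
          (map_zero _)).trans (hlim a n hn).symm
      · obtain ⟨m, rfl⟩ := Int.eq_ofNat_of_zero_le (le_of_not_gt hn)
        exact (congrArg (Ideal.Quotient.mk I) (coeff_toLaurent_natCast (h a) m)).trans (hh a m))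
  refine ⟨Ideal.Quotient.liftₐ _ g.ofConv ((le_ker_idealP_iff lam g).2 hg), ?_⟩
  refine Ideal.Quotient.algHom_ext k ?_
  exact congrArg WithConv.ofConv hgI

theorem formallySmooth_quotient_idealU [Algebra.FormallySmooth k A] :
    Algebra.FormallySmooth k (A ⧸ idealU lam) := by
  have := formallySmooth_quotient_idealP lam
  let π : (A ⧸ idealP lam) →ₐ[k] A ⧸ idealU lam :=
    Ideal.Quotient.factorₐ k (show idealP lam ≤ idealU lam from le_sup_left)
  let g : limSubgroup lam (A ⧸ idealP lam) :=
    ⟨quotPt (idealP lam), (mem_limSubgroup lam _).2 (hasLim_quotPt lam)⟩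
  let z : Pt k A (A ⧸ idealP lam) := lim lam g
  have hz : mapPt π z = 1 := by
    apply WithConv.ofConv_injective
    apply AlgHom.ext
    intro a
    rw [mapPt_apply, show z.ofConv a = _ from lim_apply lam g a, AlgHom.convOne_apply]
    exact (hasLimOne_quotPt lam).2 a
  let z' : limSubgroup lam (A ⧸ idealP lam) :=
    ⟨z, (mem_limSubgroup lam _).2 (isFixedPt_lim lam g).hasLim⟩
  have hlz : lim lam z' = z := by
    apply WithConv.ofConv_injective
    apply AlgHom.ext
    intro a
    rw [lim_apply]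
    exact (isFixedPt_lim lam g).apply_pr_zero lam a
  let w : Pt k A (A ⧸ idealP lam) := z⁻¹ * quotPt (idealP lam)
  have hw : HasLimOne lam w := by
    refine (mem_limOneSubgroup lam w).1 (Subgroup.mem_map.2 ⟨z'⁻¹ * g, ?_, rfl⟩)
    rw [MonoidHom.mem_ker, map_mul, map_inv, hlz]
    exact inv_mul_cancel z
  let r : (A ⧸ idealU lam) →ₐ[k] A ⧸ idealP lam :=
    Ideal.Quotient.liftₐ _ w.ofConv ((le_ker_idealU_iff lam w).2 hw)
  have hπw : mapPt π w = quotPt (idealU lam) := by
    rw [map_mul, map_inv, hz, inv_one, one_mul]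
    rfl
  have hπr : π.comp r = AlgHom.id k _ := by
    refine Ideal.Quotient.algHom_ext k ?_
    exact congrArg WithConv.ofConv hπw
  refine Algebra.FormallySmooth.of_comp_surjective fun B _ _ I hI f => ?_
  obtain ⟨F, hF⟩ := Algebra.FormallySmooth.comp_surjective k (A ⧸ idealP lam) I hI (f.comp π)
  refine ⟨F.comp r, ?_⟩
  show (Ideal.Quotient.mkₐ k I).comp (F.comp r) = f
  rw [← AlgHom.comp_assoc, hF, AlgHom.comp_assoc, hπr, AlgHom.comp_id]

end Groth.Agent.DynLib
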