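import Groth.Agent.DynLib.Limit

/-!
The decomposition of a point having a limit as centralizer part times contracted part.
-/

universe u

open WithConv LaurentPolynomial
open scoped TensorProduct

namespace Groth.Agent.DynLib

attribute [local instance] ptGroup
attribute [-simp] LaurentPolynomial.single_eq_C_mul_T

variable {k : Type u} [CommRing k] {A : Type u} [CommRing A] [HopfAlgebra k A]
  {R : Type u} [CommRing R] [Algebra k R] (lam : A →ₐc[k] k[T;T⁻¹])

/-- The orbit is constant. -/
def IsFixedPt (g : Pt k A R) : Prop := orb lam g = mapPt (cst k R) g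

theorem coeff_mapPt_cst (g : Pt k A R) (a : A) (n : ℤ) :
    ((mapPt (cst k R) g).ofConv a).coeff n = if n = 0 then g.ofConv a else 0 :=
  C_apply (g.ofConv a) n

theorem isFixedPt_iff (g : Pt k A R) :
    IsFixedPt lam g ↔ ∀ a, ∀ n ≠ (0 : ℤ), g.ofConv (pr lam n a) = 0 := by
  constructor
  · intro h a n hn
    rw [← coeff_orb, h, coeff_mapPt_cst, if_neg hn]
  · intro h
    have hz0 : ∀ a, g.ofConv (pr lam 0 a) = g.ofConv a := by
      intro a
      conv_rhs => rw [← sum_pr lam a, map_sum]
      rw [Finset.sum_eq_single (0 : ℤ) (fun n _ hn => h a n hn)]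
      intro h'
      rw [pr_apply, Finsupp.notMem_support_iff.1 h', map_zero]
    apply WithConv.ofConv_injective
    ext a n
    rw [coeff_orb, coeff_mapPt_cst]
    by_cases hn : n = 0
    · subst hn; simp [hz0]
    · simp [hn, h a n hn]

theorem IsFixedPt.hasLim {g : Pt k A R} (hg : IsFixedPt lam g) : HasLim lam g :=
  fun a n hn => (isFixedPt_iff lam g).1 hg a n (ne_of_lt hn)

theorem IsFixedPt.apply_pr_zero {g : Pt k A R} (hg : IsFixedPt lam g) (a : A) :
    g.ofConv (pr lam 0 a) = g.ofConv a := by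
  rw [← coeff_orb, hg, coeff_mapPt_cst, if_pos rfl]

theorem isFixedPt_lim (g : limSubgroup lam R) : IsFixedPt lam (lim lam g) :=
  (isFixedPt_iff lam _).2 fun a n hn => by
    rw [lim_apply, pr_pr, if_neg (Ne.symm hn), map_zero]

theorem hfix_iff (z : A →ₐ[k] R) : Dyn.conjOrbit k A lam R z =
    (IsScalarTower.toAlgHom k R R[T;T⁻¹]).comp z ↔ IsFixedPt lam (toConv z) := by
  rw [conjOrbit_eq]
  exact ⟨fun h => WithConv.ofConv_injective h, fun h => congrArg WithConv.ofConv h⟩

theorem conv3_eq_mul (z w : A →ₐ[k] R) :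
    toConv (Dyn.conv3 k A z w ((Algebra.ofId k R).comp (Bialgebra.counitAlgHom k A))) =
      toConv z * toConv w := by
  rw [HopfPtLib.conv3_one, toConv_ofConv]

theorem exists_unique_levi (g : A →ₐ[k] R) (hg : Dyn.LimExists k A lam R g) :
    ∃! zu : (A →ₐ[k] R) × (A →ₐ[k] R),
      Dyn.conjOrbit k A lam R zu.1 = (IsScalarTower.toAlgHom k R R[T;T⁻¹]).comp zu.1 ∧
        Dyn.LimIsOne k A lam R zu.2 ∧
        Dyn.conv3 k A zu.1 zu.2 ((Algebra.ofId k R).comp (Bialgebra.counitAlgHom k A)) = g := by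
  have hfix : ∀ z : A →ₐ[k] R, Dyn.conjOrbit k A lam R z =
      (IsScalarTower.toAlgHom k R R[T;T⁻¹]).comp z ↔ IsFixedPt lam (toConv z) := hfix_iff lam
  let g' : limSubgroup lam R :=
    ⟨toConv g, (mem_limSubgroup lam _).2 ((limExists_iff lam g).1 hg)⟩
  let z : Pt k A R := lim lam g'
  have hz : IsFixedPt lam z := isFixedPt_lim lam g'
  let z' : limSubgroup lam R := ⟨z, (mem_limSubgroup lam _).2 hz.hasLim⟩
  have hlz : lim lam z' = z := by
    apply WithConv.ofConv_injective
    apply AlgHom.ext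
    intro a
    rw [lim_apply]
    exact hz.apply_pr_zero lam a
  let w : Pt k A R := z⁻¹ * toConv g
  have hw : w ∈ limOneSubgroup lam R := by
    refine Subgroup.mem_map.2 ⟨z'⁻¹ * g', ?_, rfl⟩
    rw [MonoidHom.mem_ker, map_mul, map_inv, hlz]
    exact inv_mul_cancel z
  refine ⟨(z.ofConv, w.ofConv), ⟨(hfix _).2 hz,
    (limIsOne_iff lam _).2 ((mem_limOneSubgroup lam w).1 hw), ?_⟩, ?_⟩
  · apply WithConv.toConv_injective
    rw [conv3_eq_mul]
    exact mul_inv_cancel_left z (toConv g)
  · rintro ⟨z₁, w₁⟩ ⟨h1, h2, h3⟩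
    have hz1 := (hfix _).1 h1
    have hw1 := (limIsOne_iff lam w₁).1 h2
    have hprod : toConv z₁ * toConv w₁ = toConv g := by
      rw [← conv3_eq_mul]
      exact congrArg toConv h3
    let z1' : limSubgroup lam R := ⟨toConv z₁, (mem_limSubgroup lam _).2 hz1.hasLim⟩
    let w1' : limSubgroup lam R := ⟨toConv w₁, (mem_limSubgroup lam _).2 hw1.1⟩
    have hg' : g' = z1' * w1' := Subtype.ext hprod.symm
    have hl : z = toConv z₁ := by
      show lim lam g' = _
      rw [hg', map_mul]
      have e1 : lim lam z1' = toConv z₁ := by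
        apply WithConv.ofConv_injective
        apply AlgHom.ext
        intro a
        rw [lim_apply]
        exact hz1.apply_pr_zero lam a
      have e2 : lim lam w1' = 1 := by
        apply WithConv.ofConv_injective
        apply AlgHom.ext
        intro a
        rw [lim_apply, AlgHom.convOne_apply]
        exact hw1.2 a
      rw [e1, e2, mul_one]
    have e3 : z₁ = z.ofConv := by rw [hl, ofConv_toConv]
    have e4 : w₁ = w.ofConv := by
      show w₁ = (z⁻¹ * toConv g).ofConv
      rw [hl, ← hprod, inv_mul_cancel_left, ofConv_toConv]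
    exact Prod.ext e3 e4

variable (lamNeg : A →ₐc[k] k[T;T⁻¹])
  (hneg : (lamNeg : A →ₐ[k] k[T;T⁻¹]) = Dyn.negParam k A lam)

include hneg in
theorem represents_sup_centralizer (Jp Jp' : Ideal A)
    (hp : Dyn.Represents k A Jp (fun R _ _ g => Dyn.LimExists k A lam R g))
    (hp' : Dyn.Represents k A Jp' (fun R _ _ g => Dyn.LimExists k A lamNeg R g)) :
    Dyn.Represents k A (Jp ⊔ Jp') (fun R _ _ g =>
      Dyn.conjOrbit k A lam R g = (IsScalarTower.toAlgHom k R R[T;T⁻¹]).comp g) := by
  intro R _ _ g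
  rw [represents_unique hp (represents_idealP lam),
    represents_unique hp' (represents_idealP lamNeg)]
  change (idealP lam ⊔ idealP lamNeg) ≤ RingHom.ker (toConv g).ofConv ↔ _
  beta_reduce
  rw [sup_le_iff, le_ker_idealP_iff, le_ker_idealP_iff, hfix_iff, isFixedPt_iff]
  constructor
  · rintro ⟨h1, h2⟩ a n hn
    rcases lt_or_gt_of_ne hn with h | h
    · exact h1 a n h
    · have := h2 a (-n) (by omega)
      rwa [pr_neg lam lamNeg hneg, neg_neg] at this
  · intro h
    refine ⟨fun a n hn => h a n (ne_of_lt hn), fun a n hn => ?_⟩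
    rw [pr_neg lam lamNeg hneg]
    exact h a (-n) (by omega)

end Groth.Agent.DynLib
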