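import Groth.Agent.DynLib.Orbit

/-!
Limits of orbits under a one-parameter subgroup, and the ideals cutting them out.
-/

universe u

open WithConv LaurentPolynomial
open scoped TensorProduct

namespace Groth.Agent.DynLib

attribute [local instance] ptGroup
attribute [-simp] LaurentPolynomial.single_eq_C_mul_T

variable {k : Type u} [CommRing k] {A : Type u} [CommRing A] [HopfAlgebra k A]
  {R S : Type u} [CommRing R] [Algebra k R] [CommRing S] [Algebra k S]
  (lam : A →ₐc[k] k[T;T⁻¹])

theorem coeff_toLaurent_natCast (p : Polynomial R) (n : ℕ) :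
    (Polynomial.toLaurent p).coeff (n : ℤ) = p.coeff n := by
  rw [coeff_toLaurent]
  exact Finsupp.mapDomain_apply Nat.cast_injective _ n

theorem coeff_toLaurent_neg (p : Polynomial R) (n : ℤ) (hn : n < 0) :
    (Polynomial.toLaurent p).coeff n = 0 := by
  rw [coeff_toLaurent]
  apply Finsupp.mapDomain_of_notMem_range
  rintro ⟨m, hm⟩
  simp at hm
  omega

theorem toLaurent_trunc (p : R[T;T⁻¹]) (hp : ∀ n < 0, p.coeff n = 0) :
    Polynomial.toLaurent (trunc p) = p := by
  conv_rhs => rw [← AddMonoidAlgebra.sum_coeff_single p]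
  conv_lhs => rw [← AddMonoidAlgebra.sum_coeff_single p]
  simp only [Finsupp.sum, map_sum, single_eq_C_mul_T, trunc_C_mul_T]
  refine Finset.sum_congr rfl fun n hn => ?_
  have hn0 : 0 ≤ n := by
    by_contra h
    exact Finsupp.mem_support_iff.1 hn (hp n (by omega))
  rw [if_pos hn0, Polynomial.toLaurent_C_mul_T, Int.toNat_of_nonneg hn0]

variable (k R) in
/-- The inclusion of polynomials into Laurent polynomials. -/
noncomputable abbrev polyL : Polynomial R →ₐ[k] R[T;T⁻¹] :=
  (Polynomial.toLaurentAlg (R := R)).restrictScalars k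

theorem polyL_injective : Function.Injective (polyL k R) := Polynomial.toLaurent_injective

/-- The limit exists: the components of negative weight vanish. -/
def HasLim (g : Pt k A R) : Prop := ∀ (a : A), ∀ n < (0 : ℤ), g.ofConv (pr lam n a) = 0

theorem limExists_iff (g : A →ₐ[k] R) : Dyn.LimExists k A lam R g ↔ HasLim lam (toConv g) := by
  constructor
  · rintro ⟨h, hh⟩ a n hn
    have := congrArg (fun f : A →ₐ[k] R[T;T⁻¹] => (f a).coeff n) hh
    simp only [coeff_conjOrbit, AlgHom.comp_apply] at this
    rw [ofConv_toConv, ← this]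
    exact coeff_toLaurent_neg (h a) n hn
  · intro H
    have key : ∀ a, Polynomial.toLaurent (trunc (Dyn.conjOrbit k A lam R g a)) =
        Dyn.conjOrbit k A lam R g a := by
      intro a
      refine toLaurent_trunc _ fun n hn => ?_
      rw [coeff_conjOrbit]
      exact H a n hn
    refine ⟨AlgHom.ofLinearMap
      { toFun := fun a => trunc (Dyn.conjOrbit k A lam R g a)
        map_add' := by simp
        map_smul' := ?_ } ?_ ?_, ?_⟩
    · intro c a
      apply Polynomial.toLaurent_injective
      rw [key, map_smul, RingHom.id_apply, ← Polynomial.toLaurentAlg_apply (f := c • _),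
        AlgHom.map_smul_of_tower, Polynomial.toLaurentAlg_apply, key]
    · apply Polynomial.toLaurent_injective
      show Polynomial.toLaurent (trunc _) = _
      rw [key, map_one, map_one]
    · intro a b
      apply Polynomial.toLaurent_injective
      show Polynomial.toLaurent (trunc _) =
        Polynomial.toLaurent (trunc _ * trunc _)
      rw [map_mul Polynomial.toLaurent, key, key, key, map_mul]
    · ext a : 1
      exact key a

/-- The polynomial orbit of a point with a limit. -/
noncomputable def limPoly {g : Pt k A R} (hg : HasLim lam g) : Pt k A (Polynomial R) :=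
  toConv ((limExists_iff lam g.ofConv).2 hg).choose

theorem mapPt_limPoly {g : Pt k A R} (hg : HasLim lam g) :
    mapPt (polyL k R) (limPoly lam hg) = orb lam g := by
  apply WithConv.ofConv_injective
  rw [mapPt_ofConv]
  exact (((limExists_iff lam g.ofConv).2 hg).choose_spec).trans (conjOrbit_eq lam g.ofConv)

theorem hasLim_iff_exists (g : Pt k A R) :
    HasLim lam g ↔ ∃ h, mapPt (polyL k R) h = orb lam g := by
  refine ⟨fun hg => ⟨_, mapPt_limPoly lam hg⟩, fun ⟨h, hh⟩ => ?_⟩
  refine (limExists_iff lam g.ofConv).1 ⟨h.ofConv, ?_⟩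
  rw [conjOrbit_eq]
  exact congrArg WithConv.ofConv hh

/-- The subgroup of points whose orbit has a limit. -/
noncomputable def limSubgroup (R : Type u) [CommRing R] [Algebra k R] : Subgroup (Pt k A R) :=
  Subgroup.comap (orb lam) (mapPt (polyL k R)).range

theorem mem_limSubgroup (g : Pt k A R) : g ∈ limSubgroup lam R ↔ HasLim lam g := by
  rw [hasLim_iff_exists]
  exact Iff.rfl

theorem coeff_limPoly {g : Pt k A R} (hg : HasLim lam g) (a : A) (n : ℕ) :
    ((limPoly lam hg).ofConv a).coeff n = g.ofConv (pr lam n a) := by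
  have := congrArg (fun f : Pt k A R[T;T⁻¹] => (f.ofConv a).coeff (n : ℤ))
    (mapPt_limPoly lam hg)
  simp only [coeff_orb, mapPt_apply] at this
  rw [← this]
  exact (coeff_toLaurent_natCast _ n).symm

variable (k R) in
/-- Evaluation at zero. -/
noncomputable abbrev evalZero : Polynomial R →ₐ[k] R :=
  (Polynomial.aeval (R := R) (0 : R)).restrictScalars k

theorem evalZero_apply (p : Polynomial R) : evalZero k R p = p.coeff 0 := by
  simp [evalZero, Polynomial.coeff_zero_eq_aeval_zero]

/-- The limit of the orbit, as a homomorphism on the points having a limit. -/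
noncomputable def lim : limSubgroup lam R →* Pt k A R where
  toFun g := mapPt (evalZero k R) (limPoly lam ((mem_limSubgroup lam g.1).1 g.2))
  map_one' := by
    have : limPoly lam ((mem_limSubgroup lam _).1 (1 : limSubgroup lam R).2) = 1 := by
      apply WithConv.ofConv_injective
      apply AlgHom.ext
      intro a
      apply polyL_injective (k := k)
      have := congrArg (fun f : Pt k A R[T;T⁻¹] => f.ofConv a)
        ((mapPt_limPoly lam ((mem_limSubgroup lam _).1 (1 : limSubgroup lam R).2)).trans
          ((map_one (orb lam)).trans (map_one (mapPt (polyL k R))).symm))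
      simpa [single_eq_C] using this
    rw [this, map_one]
  map_mul' g h := by
    rw [← map_mul]
    congr 1
    apply WithConv.ofConv_injective
    apply AlgHom.ext
    intro a
    apply polyL_injective (k := k)
    have := congrArg (fun f : Pt k A R[T;T⁻¹] => f.ofConv a)
      ((mapPt_limPoly lam ((mem_limSubgroup lam _).1 (g * h).2)).trans
        ((map_mul (orb lam) g.1 h.1).trans (by
          rw [← mapPt_limPoly lam ((mem_limSubgroup lam _).1 g.2),
            ← mapPt_limPoly lam ((mem_limSubgroup lam _).1 h.2), ← map_mul])))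
    exact this

theorem lim_apply (g : limSubgroup lam R) (a : A) :
    (lim lam g).ofConv a = g.1.ofConv (pr lam 0 a) := by
  show evalZero k R _ = _
  rw [evalZero_apply]
  exact coeff_limPoly lam _ a 0

/-- The limit exists and is the identity. -/
def HasLimOne (g : Pt k A R) : Prop :=
  HasLim lam g ∧ ∀ a, g.ofConv (pr lam 0 a) = algebraMap k R (Coalgebra.counit a)

theorem limIsOne_iff (g : A →ₐ[k] R) :
    Dyn.LimIsOne k A lam R g ↔ HasLimOne lam (toConv g) := by
  constructor
  · rintro ⟨h, hh, h0⟩
    refine ⟨(limExists_iff lam g).1 ⟨h, hh⟩, fun a => ?_⟩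
    have h1 := congrArg (fun f : A →ₐ[k] R => f a) h0
    have h2 := congrArg (fun f : A →ₐ[k] R[T;T⁻¹] => (f a).coeff ((0 : ℕ) : ℤ)) hh
    simp only [AlgHom.comp_apply] at h1 h2
    rw [evalZero_apply] at h1
    rw [coeff_conjOrbit] at h2
    rw [ofConv_toConv]
    exact (h2.symm.trans (coeff_toLaurent_natCast (h a) 0)).trans h1
  · rintro ⟨hl, h0⟩
    refine ⟨(limPoly lam hl).ofConv, ?_, ?_⟩
    · rw [conjOrbit_eq, ← mapPt_limPoly lam hl]
      rfl
    · ext a : 1
      show evalZero k R _ = _
      rw [evalZero_apply]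
      exact (coeff_limPoly lam hl a 0).trans (h0 a)

/-- The subgroup of points whose orbit tends to the identity. -/
noncomputable def limOneSubgroup (R : Type u) [CommRing R] [Algebra k R] : Subgroup (Pt k A R) :=
  (lim lam (R := R)).ker.map (limSubgroup lam R).subtype

theorem mem_limOneSubgroup (g : Pt k A R) : g ∈ limOneSubgroup lam R ↔ HasLimOne lam g := by
  rw [limOneSubgroup, Subgroup.mem_map]
  constructor
  · rintro ⟨x, hx, rfl⟩
    refine ⟨(mem_limSubgroup lam _).1 x.2, fun a => ?_⟩
    rw [Subgroup.coe_subtype, ← lim_apply, MonoidHom.mem_ker.1 hx, AlgHom.convOne_apply]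
  · rintro ⟨hg, h0⟩
    refine ⟨⟨g, (mem_limSubgroup lam g).2 hg⟩, MonoidHom.mem_ker.2 ?_, rfl⟩
    apply WithConv.ofConv_injective
    apply AlgHom.ext
    intro a
    rw [lim_apply, AlgHom.convOne_apply]
    exact h0 a

/-- The ideal cutting out the points with a limit. -/
noncomputable def idealP : Ideal A := Ideal.span {x | ∃ n < (0 : ℤ), ∃ a, x = pr lam n a}

/-- The ideal cutting out the points with limit the identity. -/
noncomputable def idealU : Ideal A :=
  idealP lam ⊔ Ideal.span (Set.range fun a =>
    pr lam 0 a - algebraMap k A (Coalgebra.counit a))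

theorem le_ker_idealP_iff (g : Pt k A R) :
    idealP lam ≤ RingHom.ker g.ofConv ↔ HasLim lam g := by
  rw [idealP, Ideal.span_le]
  exact ⟨fun h a n hn => h ⟨n, hn, a, rfl⟩, fun h => by rintro _ ⟨n, hn, a, rfl⟩; exact h a n hn⟩

theorem le_ker_idealU_iff (g : Pt k A R) :
    idealU lam ≤ RingHom.ker g.ofConv ↔ HasLimOne lam g := by
  rw [idealU, sup_le_iff, le_ker_idealP_iff, Ideal.span_le, Set.range_subset_iff]
  refine and_congr Iff.rfl (forall_congr' fun a => ?_)
  simp [sub_eq_zero]

theorem represents_idealP :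
    Dyn.Represents k A (idealP lam) (fun R _ _ g => Dyn.LimExists k A lam R g) := fun R _ _ g =>
  (le_ker_idealP_iff lam (toConv g)).trans (limExists_iff lam g).symm

theorem represents_idealU :
    Dyn.Represents k A (idealU lam) (fun R _ _ g => Dyn.LimIsOne k A lam R g) := fun R _ _ g =>
  (le_ker_idealU_iff lam (toConv g)).trans (limIsOne_iff lam g).symm

/-- Representing ideals are unique. -/
theorem represents_unique {J J' : Ideal A}
    {P : ∀ (R : Type u) [CommRing R] [Algebra k R], (A →ₐ[k] R) → Prop}
    (h : Dyn.Represents k A J P) (h' : Dyn.Represents k A J' P) : J = J' := by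
  refine le_antisymm (fun x hx => ?_) (fun x hx => ?_)
  · rw [← Ideal.Quotient.eq_zero_iff_mem]
    exact (h (A ⧸ J') (Ideal.Quotient.mkₐ k J')).2
      ((h' _ _).1 fun a ha => Ideal.Quotient.eq_zero_iff_mem.2 ha) x hx
  · rw [← Ideal.Quotient.eq_zero_iff_mem]
    exact (h' (A ⧸ J) (Ideal.Quotient.mkₐ k J)).2
      ((h _ _).1 fun a ha => Ideal.Quotient.eq_zero_iff_mem.2 ha) x hx

/-- An ideal representing a subgroup functor is a Hopf ideal. -/
theorem isHopfIdeal_of_subgroup (J : Ideal A)
    (H : ∀ (R : Type u) [CommRing R] [Algebra k R], Subgroup (Pt k A R))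
    (hJ : ∀ (R : Type u) [CommRing R] [Algebra k R] (g : Pt k A R),
      J ≤ RingHom.ker g.ofConv ↔ g ∈ H R) : J.IsHopfIdeal k := by
  let Q := Ideal.Quotient.mkₐ k J
  have hQ : toConv Q ∈ H (A ⧸ J) := (hJ _ _).1 fun a ha => Ideal.Quotient.eq_zero_iff_mem.2 ha
  refine { counit_eq_zero := fun x hx => ?_, map_mkQ_comul_eq_zero := fun x hx => ?_,
           antipode_mem := fun x hx => ?_ }
  · have := (hJ k 1).2 (one_mem _) hx
    simpa using this
  · have e : ∀ y : A ⊗[k] A, Algebra.TensorProduct.map Q Q y = 0 →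
        TensorProduct.map (J.restrictScalars k).mkQ (J.restrictScalars k).mkQ y = 0 := fun y hy => hy
    apply e
    let l : A →ₐ[k] (A ⧸ J) ⊗[k] (A ⧸ J) := Algebra.TensorProduct.includeLeft.comp Q
    let r : A →ₐ[k] (A ⧸ J) ⊗[k] (A ⧸ J) := Algebra.TensorProduct.includeRight.comp Q
    have hl : toConv l ∈ H _ := (hJ _ _).1 fun a ha => by
      simp [l, Q, Ideal.Quotient.eq_zero_iff_mem.2 ha]
    have hr : toConv r ∈ H _ := (hJ _ _).1 fun a ha => by
      simp [r, Q, Ideal.Quotient.eq_zero_iff_mem.2 ha]
    have h := (hJ _ _).2 (mul_mem hl hr) hx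
    rw [RingHom.mem_ker, AlgHom.convMul_apply] at h
    refine Eq.trans ?_ h
    show _ = _
    generalize CoalgebraStruct.comul (R := k) x = y
    induction y using TensorProduct.induction_on with
    | zero => simp
    | tmul p q => simp [l, r]
    | add p q hp hq => simp only [map_add, hp, hq]
  · rw [← Ideal.Quotient.eq_zero_iff_mem]
    exact (hJ _ _).2 (inv_mem hQ) hx

theorem isHopfIdeal_idealP : (idealP lam).IsHopfIdeal k :=
  isHopfIdeal_of_subgroup _ (fun R _ _ => limSubgroup lam R)
    fun R _ _ g => (le_ker_idealP_iff lam g).trans (mem_limSubgroup lam g).symm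

theorem isHopfIdeal_idealU : (idealU lam).IsHopfIdeal k :=
  isHopfIdeal_of_subgroup _ (fun R _ _ => limOneSubgroup lam R)
    fun R _ _ g => (le_ker_idealU_iff lam g).trans (mem_limOneSubgroup lam g).symm

variable (lamNeg : A →ₐc[k] k[T;T⁻¹])
  (hneg : (lamNeg : A →ₐ[k] k[T;T⁻¹]) = Dyn.negParam k A lam)

include hneg in
theorem pr_neg (n : ℤ) (a : A) : pr lamNeg n a = pr lam (-n) a := by
  let i : A[T;T⁻¹] →ₐ[k] A[T;T⁻¹] :=
    (LaurentPolynomial.invert (R := A)).toAlgHom.restrictScalars k
  have h1 : lamPt A lamNeg = mapPt i (lamPt A lam) := by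
    apply WithConv.ofConv_injective
    ext a : 1
    show AddMonoidAlgebra.mapAlgHom ℤ _ ((lamNeg : A →ₐ[k] k[T;T⁻¹]) a) =
      LaurentPolynomial.invert (AddMonoidAlgebra.mapAlgHom ℤ _ (lam a))
    rw [hneg]
    ext m
    show _ = _
    simp [Dyn.negParam, invert_apply]
  have h2 : mapPt i (mapPt (cst k A) (toConv (AlgHom.id k A))) =
      mapPt (cst k A) (toConv (AlgHom.id k A)) := by
    apply WithConv.ofConv_injective
    ext a : 1
    show LaurentPolynomial.invert (cst k A a) = cst k A a
    rw [cst_apply, single_eq_C, invert_C]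
  have h3 : orb lamNeg (toConv (AlgHom.id k A)) = mapPt i (orb lam (toConv (AlgHom.id k A))) := by
    rw [orb_apply, orb_apply, map_mul, map_mul, map_inv, ← h1, h2]
  show ((orb lamNeg (toConv (AlgHom.id k A))).ofConv a).coeff n = _
  rw [h3, mapPt_apply]
  exact invert_apply _ n

end Groth.Agent.DynLib
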