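import Groth.Prelude.Def_Dyn
import Groth.Agent.HopfPtLib.Conv3
import Mathlib.RingTheory.HopfAlgebra.Quotient

/-!
Conjugation orbits of points under a one-parameter subgroup, and the grading they induce on
the coordinate ring.
-/

universe u

open WithConv LaurentPolynomial
open scoped TensorProduct

namespace Groth.Agent.DynLib

variable {k : Type u} [CommRing k] {A : Type u} [CommRing A] [HopfAlgebra k A]
  {R S : Type u} [CommRing R] [Algebra k R] [CommRing S] [Algebra k S]

variable (k A R) in
/-- The points of `Spec A` with values in `R`, under convolution. -/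
abbrev Pt : Type u := WithConv (A →ₐ[k] R)

/-- The group of points. -/
@[reducible] noncomputable def ptGroup : Group (Pt k A R) :=
  { (inferInstance : Monoid (Pt k A R)) with
    inv := fun f => toConv (f.ofConv.comp (HopfAlgebra.antipodeAlgHom k A))
    inv_mul_cancel := fun f => HopfPtLib.antipode_comp_convMul f.ofConv }

attribute [local instance] ptGroup
attribute [-simp] LaurentPolynomial.single_eq_C_mul_T

theorem inv_def (f : Pt k A R) :
    f⁻¹ = toConv (f.ofConv.comp (HopfAlgebra.antipodeAlgHom k A)) := rfl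

/-- Functoriality of the group of points. -/
noncomputable def mapPt (f : R →ₐ[k] S) : Pt k A R →* Pt k A S where
  toFun g := toConv (f.comp g.ofConv)
  map_one' := by
    apply WithConv.ofConv_injective
    ext a
    simp [AlgHom.convOne_apply]
  map_mul' g h := by
    rw [AlgHom.comp_convMul_distrib, toConv_ofConv]

@[simp] theorem mapPt_apply (f : R →ₐ[k] S) (g : Pt k A R) (a : A) :
    (mapPt f g).ofConv a = f (g.ofConv a) := rfl

theorem mapPt_ofConv (f : R →ₐ[k] S) (g : Pt k A R) :
    (mapPt f g).ofConv = f.comp g.ofConv := rfl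

variable (k R) in
/-- The constant Laurent polynomials. -/
noncomputable abbrev cst : R →ₐ[k] R[T;T⁻¹] := IsScalarTower.toAlgHom k R R[T;T⁻¹]

theorem cst_apply (r : R) : cst k R r = AddMonoidAlgebra.single 0 r := rfl

/-- Applying an algebra map to the coefficients. -/
noncomputable abbrev mapL (f : R →ₐ[k] S) : R[T;T⁻¹] →ₐ[k] S[T;T⁻¹] :=
  AddMonoidAlgebra.mapAlgHom ℤ f

theorem mapL_comp_cst (f : R →ₐ[k] S) : (mapL f).comp (cst k R) = (cst k S).comp f := by
  ext r
  simp

variable (lam : A →ₐc[k] k[T;T⁻¹])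

theorem mapL_comp_lamR (f : R →ₐ[k] S) :
    (mapL f).comp (Dyn.lamR k A lam R) = Dyn.lamR k A lam S := by
  rw [Dyn.lamR, Dyn.lamR, ← AlgHom.comp_assoc, ← AddMonoidAlgebra.mapRangeAlgHom_comp]
  congr 2
  exact Subsingleton.elim _ _

variable (R) in
/-- `lam` as an `R[T;T⁻¹]`-valued point. -/
noncomputable def lamPt : Pt k A R[T;T⁻¹] := toConv (Dyn.lamR k A lam R)

/-- The conjugated orbit, as a group homomorphism. -/
noncomputable def orb : Pt k A R →* Pt k A R[T;T⁻¹] :=
  (MulAut.conj (lamPt R lam)).toMonoidHom.comp (mapPt (cst k R))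

theorem orb_apply (g : Pt k A R) :
    orb lam g = lamPt R lam * mapPt (cst k R) g * (lamPt R lam)⁻¹ := rfl

theorem conjOrbit_eq (g : A →ₐ[k] R) :
    Dyn.conjOrbit k A lam R g = (orb lam (toConv g)).ofConv := by
  rw [Dyn.conjOrbit, HopfPtLib.conv3_eq]
  rfl

theorem orb_natural (f : R →ₐ[k] S) (g : Pt k A R) :
    mapPt (mapL f) (orb lam g) = orb lam (mapPt f g) := by
  have h1 : mapPt (mapL f) (lamPt R lam) = lamPt S lam := by
    apply WithConv.ofConv_injective
    exact mapL_comp_lamR lam f
  have h2 : mapPt (mapL f) (mapPt (cst k R) g) = mapPt (cst k S) (mapPt f g) := by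
    apply WithConv.ofConv_injective
    change (mapL f).comp ((cst k R).comp g.ofConv) = (cst k S).comp (f.comp g.ofConv)
    rw [← AlgHom.comp_assoc, mapL_comp_cst, AlgHom.comp_assoc]
  rw [orb_apply, orb_apply, map_mul, map_mul, map_inv, h1, h2]

/-- The coaction of the multiplicative group on `A` given by conjugation. -/
noncomputable def coact : A →ₐ[k] A[T;T⁻¹] := (orb lam (toConv (AlgHom.id k A))).ofConv

/-- The graded components. -/
noncomputable def pr (n : ℤ) : A →ₗ[k] A where
  toFun a := (coact lam a).coeff n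
  map_add' a b := by simp
  map_smul' c a := by simp

theorem pr_apply (n : ℤ) (a : A) : pr lam n a = (coact lam a).coeff n := rfl

theorem orb_eq_mapL (g : Pt k A R) : (orb lam g).ofConv = (mapL g.ofConv).comp (coact lam) := by
  have h := orb_natural lam g.ofConv (toConv (AlgHom.id k A))
  have : mapPt g.ofConv (toConv (AlgHom.id k A)) = g := rfl
  rw [this] at h
  rw [← h, mapPt_ofConv]
  rfl

theorem coeff_orb (g : Pt k A R) (a : A) (n : ℤ) :
    ((orb lam g).ofConv a).coeff n = g.ofConv (pr lam n a) := by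
  rw [orb_eq_mapL]
  simp [mapL, pr_apply]

theorem coeff_conjOrbit (g : A →ₐ[k] R) (a : A) (n : ℤ) :
    (Dyn.conjOrbit k A lam R g a).coeff n = g (pr lam n a) := by
  rw [conjOrbit_eq, coeff_orb]

variable (k R) in
/-- Evaluation at `T = 1`. -/
noncomputable def evalOne : R[T;T⁻¹] →ₐ[k] R :=
  (AddMonoidAlgebra.lift R R ℤ (1 : Multiplicative ℤ →* R)).restrictScalars k

theorem evalOne_single (n : ℤ) (r : R) : evalOne k R (AddMonoidAlgebra.single n r) = r := by
  simp [evalOne, AddMonoidAlgebra.lift_single]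

theorem evalOne_lamR (a : A) :
    evalOne k R (Dyn.lamR k A lam R a) = algebraMap k R (Coalgebra.counit a) := by
  have key : ∀ p : k[T;T⁻¹], evalOne k R (AddMonoidAlgebra.mapAlgHom ℤ (Algebra.ofId k R) p) =
      algebraMap k R (Coalgebra.counit p) := by
    intro p
    induction p using AddMonoidAlgebra.induction_linear with
    | zero => simp
    | add p q hp hq => simp [map_add, hp, hq]
    | single n r => simp [evalOne_single, AddMonoidAlgebra.counit_single]
  rw [Dyn.lamR, AlgHom.comp_apply, key]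
  congr 1
  exact CoalgHomClass.counit_comp_apply lam a

theorem mapPt_evalOne_orb (g : Pt k A R) : mapPt (evalOne k R) (orb lam g) = g := by
  have h1 : mapPt (evalOne k R) (lamPt R lam) = 1 := by
    apply WithConv.ofConv_injective
    ext a
    exact (evalOne_lamR lam a).trans (AlgHom.convOne_apply a).symm
  have h2 : mapPt (evalOne k R) (mapPt (cst k R) g) = g := by
    apply WithConv.ofConv_injective
    ext a
    simp [cst_apply, evalOne_single]
  rw [orb_apply, map_mul, map_mul, map_inv, h1, h2, one_mul, inv_one, mul_one]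

theorem evalOne_coact (a : A) : evalOne k A (coact lam a) = a := by
  have := congrArg (fun g : Pt k A A => g.ofConv a)
    (mapPt_evalOne_orb lam (toConv (AlgHom.id k A)))
  exact this

theorem sum_pr (a : A) : ∑ n ∈ (coact lam a).coeff.support, pr lam n a = a := by
  conv_rhs => rw [← evalOne_coact lam a, ← AddMonoidAlgebra.sum_coeff_single (coact lam a)]
  simp only [Finsupp.sum, map_sum, evalOne_single]
  rfl

theorem counit_pr (n : ℤ) (a : A) :
    Coalgebra.counit (R := k) (pr lam n a) = if n = 0 then Coalgebra.counit a else 0 := by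
  have h := coeff_orb lam (1 : Pt k A k) a n
  rw [map_one, AlgHom.convOne_apply, AlgHom.convOne_apply] at h
  rw [show algebraMap k k (Coalgebra.counit (R := k) (pr lam n a)) =
    Coalgebra.counit (R := k) (pr lam n a) from rfl] at h
  rw [← h, LaurentPolynomial.algebraMap_apply, C_apply]
  simp

variable (k R) in
/-- The diagonal `T ↦ T S`. -/
noncomputable def diag : R[T;T⁻¹] →ₐ[k] (R[T;T⁻¹])[T;T⁻¹] :=
  (AddMonoidAlgebra.lift R (R[T;T⁻¹])[T;T⁻¹] ℤ
    { toFun := fun n => AddMonoidAlgebra.single n.toAdd (AddMonoidAlgebra.single n.toAdd 1)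
      map_one' := rfl
      map_mul' := fun m n => by simp [AddMonoidAlgebra.single_mul_single] }).restrictScalars k

theorem diag_single (n : ℤ) (r : R) : diag k R (AddMonoidAlgebra.single n r) =
    AddMonoidAlgebra.single n (AddMonoidAlgebra.single n r) := by
  simp [diag, AddMonoidAlgebra.lift_single, AddMonoidAlgebra.smul_single]

theorem coeff_diag (p : R[T;T⁻¹]) (n : ℤ) :
    (diag k R p).coeff n = AddMonoidAlgebra.single n (p.coeff n) := by
  induction p using AddMonoidAlgebra.induction_linear with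
  | zero => simp
  | add p q hp hq => simp [map_add, hp, hq]
  | single m r =>
    rw [diag_single]
    by_cases h : n = m <;> simp [h]

theorem convMul_comp_lam {D : Type u} [CommRing D] [Algebra k D] (u v : k[T;T⁻¹] →ₐ[k] D) :
    (toConv (u.comp (lam : A →ₐ[k] k[T;T⁻¹])) * toConv (v.comp (lam : A →ₐ[k] k[T;T⁻¹]))) =
      toConv ((toConv u * toConv v).ofConv.comp (lam : A →ₐ[k] k[T;T⁻¹])) := by
  rw [AlgHom.convMul_comp_bialgHom_distrib, toConv_ofConv]

theorem lamPt_mul :
    lamPt (R[T;T⁻¹]) lam * mapPt (cst k R[T;T⁻¹]) (lamPt R lam) =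
      mapPt (diag k R) (lamPt R lam) := by
  let u : k[T;T⁻¹] →ₐ[k] (R[T;T⁻¹])[T;T⁻¹] := AddMonoidAlgebra.mapAlgHom ℤ (Algebra.ofId k R[T;T⁻¹])
  let v : k[T;T⁻¹] →ₐ[k] (R[T;T⁻¹])[T;T⁻¹] :=
    (cst k R[T;T⁻¹]).comp (AddMonoidAlgebra.mapAlgHom ℤ (Algebra.ofId k R))
  let w : k[T;T⁻¹] →ₐ[k] (R[T;T⁻¹])[T;T⁻¹] :=
    (diag k R).comp (AddMonoidAlgebra.mapAlgHom ℤ (Algebra.ofId k R))
  have huv : (toConv u * toConv v).ofConv = w := by
    refine AddMonoidAlgebra.algHom_ext (fun n => ?_) (Subsingleton.elim _ _)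
    rw [AlgHom.convMul_apply, AddMonoidAlgebra.comul_single]
    simp [u, v, w, diag_single, AddMonoidAlgebra.single_mul_single]
  change toConv (u.comp (lam : A →ₐ[k] k[T;T⁻¹])) * toConv (v.comp (lam : A →ₐ[k] k[T;T⁻¹])) =
    toConv (w.comp (lam : A →ₐ[k] k[T;T⁻¹]))
  rw [convMul_comp_lam, huv]

theorem orb_orb (g : Pt k A R) : orb lam (orb lam g) = mapPt (diag k R) (orb lam g) := by
  have h2 : mapPt (diag k R) (mapPt (cst k R) g) =
      mapPt (cst k R[T;T⁻¹]) (mapPt (cst k R) g) := by
    apply WithConv.ofConv_injective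
    ext a
    simp [cst_apply, diag_single]
  calc orb lam (orb lam g)
      = (lamPt R[T;T⁻¹] lam * mapPt (cst k R[T;T⁻¹]) (lamPt R lam)) *
          mapPt (cst k R[T;T⁻¹]) (mapPt (cst k R) g) *
          (lamPt R[T;T⁻¹] lam * mapPt (cst k R[T;T⁻¹]) (lamPt R lam))⁻¹ := by
        rw [orb_apply lam (orb lam g), orb_apply lam g, map_mul, map_mul, map_inv]
        simp only [mul_assoc, mul_inv_rev]
    _ = _ := by rw [lamPt_mul, ← h2, orb_apply lam g, map_mul, map_mul, map_inv]

theorem coact_pr (n : ℤ) (a : A) :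
    coact lam (pr lam n a) = AddMonoidAlgebra.single n (pr lam n a) := by
  have h := congrArg (fun g : Pt k A (A[T;T⁻¹])[T;T⁻¹] => (g.ofConv a).coeff n)
    (orb_orb lam (toConv (AlgHom.id k A)))
  simp only [coeff_orb, mapPt_apply, coeff_diag] at h
  exact h

theorem pr_pr (m n : ℤ) (a : A) :
    pr lam m (pr lam n a) = if m = n then pr lam n a else 0 := by
  rw [pr_apply, coact_pr]
  by_cases h : m = n <;> simp [h]

end Groth.Agent.DynLib
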